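import Mathlib
import Cfsg.Agent.H360.ON.Sys
import Cfsg.Agent.S0058

/-!
# TI normal subgroups of point stabilisers: the rank one groups (helper88)

`Sys N` (helper360): a 2-transitive group `G` on `X` with an equivariant family of subgroups `N a ≤ G_a` meeting
pairwise trivially and not semiregular.

* `Sys.not_rank_one` : there is no such family if `G` has a normal subgroup `T` such that `T_{xy}` is cyclic and
  `G_x` has a normal `p`-subgroup `Q`, regular on the points different from `x`, in which the proper `T_{xy}`-invariant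
  subgroups generate a proper subgroup.
-/

set_option autoImplicit false

namespace Cfsg.Agent.H88.NoTI

open Subgroup MulAction Cfsg.Agent.H360.ON

/-- subgroups of the same order of a cyclic group are equal -/
theorem cyclic_unique {G : Type*} [Group G] {H : Subgroup G} [Finite H] (hH : IsCyclic H) {A B : Subgroup G}
    (hA : A ≤ H) (hB : B ≤ H) (h : Nat.card A = Nat.card B) : A = B := by
  classical
  have : Fintype H := Fintype.ofFinite H
  set k := Nat.card A with hk
  have hfA : Finite A := Finite.of_injective (Subgroup.inclusion hA) (Subgroup.inclusion_injective hA)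
  have hfB : Finite B := Finite.of_injective (Subgroup.inclusion hB) (Subgroup.inclusion_injective hB)
  have hpos : 0 < k := Nat.card_pos
  have hle := IsCyclic.card_pow_eq_one_le (α := H) hpos
  have key : ∀ C : Subgroup G, C ≤ H → Nat.card C = k →
      ((C.subgroupOf H : Subgroup H) : Set H) = {a : H | a ^ k = 1} := by
    intro C hC hCk
    apply Set.eq_of_subset_of_ncard_le
    · intro a ha
      have h1 : (⟨(a : G), ha⟩ : C) ^ Nat.card C = 1 := pow_card_eq_one'
      rw [hCk] at h1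
      have h2 := congrArg Subtype.val h1
      exact Subtype.ext h2
    · have h1 : (({a : H | a ^ k = 1} : Set H)).ncard ≤ k := by
        rw [Set.ncard_eq_toFinset_card']
        refine le_trans (le_of_eq ?_) hle
        congr 1
        ext a
        simp
      refine h1.trans ?_
      rw [← hCk, ← Nat.card_coe_set_eq]
      exact (Nat.card_congr (Subgroup.subgroupOfEquivOfLe hC).toEquiv).ge
    · exact Set.toFinite _
  have h1 := key A hA rfl
  have h2 := key B hB h.symm
  have h3 : A.subgroupOf H = B.subgroupOf H := SetLike.coe_injective (h1.trans h2.symm)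
  have h4 := congrArg (Subgroup.map H.subtype) h3
  rwa [Subgroup.map_subgroupOf_eq_of_le hA, Subgroup.map_subgroupOf_eq_of_le hB] at h4

variable {G X : Type*} [Group G] [MulAction G X] {N : X → Subgroup G}

theorem not_rank_one [Finite G] [FaithfulSMul G X] (S : Sys N) {T : Subgroup G} (hT : T.Normal) {x y : X}
    (hxy : x ≠ y) {p : ℕ} (hp : p.Prime) {Q : Subgroup G} (hQx : ∀ q ∈ Q, q • x = x)
    (hQn : ∀ g : G, g • x = x → ∀ q ∈ Q, g * q * g⁻¹ ∈ Q) (hQp : IsPGroup p Q)
    (hQt : ∀ z, z ≠ x → ∃ q ∈ Q, q • y = z) (hQf : ∀ q ∈ Q, q • y = y → q = 1)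
    (hcyc : IsCyclic ↥(T ⊓ stabilizer G x ⊓ stabilizer G y)) {Φ : Subgroup G} (hΦ : Φ < Q)
    (hirr : ∀ R ≤ Q, (∀ h ∈ T, h • x = x → h • y = y → ∀ r ∈ R, h * r * h⁻¹ ∈ R) → R ≤ Φ ∨ R = Q) : False := by
  classical
  have hfp : Fact p.Prime := ⟨hp⟩
  -- `B`, `C` meet `T` trivially
  obtain ⟨s, hs1, hs2⟩ := S.two x y y x hxy hxy.symm
  have hTconj : ∀ g t : G, t ∈ T → g * t * g⁻¹ ∈ T := fun g t ht => hT.conj_mem t ht g
  have hcard : Nat.card ↥(A N x y ⊓ T) = Nat.card ↥(A N y x ⊓ T) := by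
    have h1 : (A N x y ⊓ T).map (MulAut.conj s).toMonoidHom = A N y x ⊓ T := by
      rw [Subgroup.map_inf _ _ _ (MulAut.conj s).injective, S.map_A, hs1, hs2]
      congr 1
      have := hT
      exact Subgroup.Normal.map_conj_eq T s
    rw [← h1]
    exact Nat.card_congr ((A N x y ⊓ T).equivMapOfInjective _ (MulAut.conj s).injective).toEquiv
  have hBH : A N x y ⊓ T ≤ T ⊓ stabilizer G x ⊓ stabilizer G y := by
    rintro g ⟨⟨h1, h2⟩, h3⟩
    exact ⟨⟨h3, S.fix x g h1⟩, h2⟩
  have hCH : A N y x ⊓ T ≤ T ⊓ stabilizer G x ⊓ stabilizer G y := by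
    rintro g ⟨⟨h1, h2⟩, h3⟩
    exact ⟨⟨h3, h2⟩, S.fix y g h1⟩
  have hBC := cyclic_unique hcyc hBH hCH hcard
  have hBT : ∀ g ∈ A N x y, g ∈ T → g = 1 := by
    intro g hg hgT
    have h1 : g ∈ A N y x ⊓ T := by rw [← hBC]; exact ⟨hg, hgT⟩
    exact S.ti x y hxy g hg.1 h1.1.1
  have hCT : ∀ g ∈ A N y x, g ∈ T → g = 1 := by
    intro g hg hgT
    have h1 : g ∈ A N x y ⊓ T := by rw [hBC]; exact ⟨hg, hgT⟩
    exact S.ti x y hxy g h1.1.1 hg.1
  -- `T_{xy}` centralises `B` and `C`
  have hconjA : ∀ (a b : X) (h g : G), h • a = a → h • b = b → g ∈ A N a b → h * g * h⁻¹ ∈ A N a b := by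
    intro a b h g ha hb hg
    have := (S.conj_A h a b g).2 hg
    rwa [ha, hb] at this
  have hcomB : ∀ h ∈ T, h • x = x → h • y = y → ∀ b ∈ A N x y, h * b = b * h := by
    intro h hhT h1 h2 b hb
    have h3 : h * b * h⁻¹ * b⁻¹ = 1 := by
      apply hBT
      · exact mul_mem (hconjA x y h b h1 h2 hb) (inv_mem hb)
      · have : h * b * h⁻¹ * b⁻¹ = h * (b * h⁻¹ * b⁻¹) := by group
        rw [this]
        exact mul_mem hhT (hTconj b _ (inv_mem hhT))
    exact mul_inv_eq_iff_eq_mul.1 (mul_inv_eq_one.1 h3)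
  have hcomC : ∀ h ∈ T, h • x = x → h • y = y → ∀ b ∈ A N y x, h * b = b * h := by
    intro h hhT h1 h2 b hb
    have h3 : h * b * h⁻¹ * b⁻¹ = 1 := by
      apply hCT
      · exact mul_mem (hconjA y x h b h2 h1 hb) (inv_mem hb)
      · have : h * b * h⁻¹ * b⁻¹ = h * (b * h⁻¹ * b⁻¹) := by group
        rw [this]
        exact mul_mem hhT (hTconj b _ (inv_mem hhT))
    exact mul_inv_eq_iff_eq_mul.1 (mul_inv_eq_one.1 h3)
  -- an element fixing `y` and commuting with `Q` is trivial
  have hcent : ∀ g : G, g • x = x → g • y = y → (∀ q ∈ Q, g * q = q * g) → g = 1 := by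
    intro g h1 h2 h3
    apply FaithfulSMul.eq_of_smul_eq_smul (α := X)
    intro z
    rw [one_smul]
    by_cases hz : z = x
    · rw [hz, h1]
    · obtain ⟨q, hq, rfl⟩ := hQt z hz
      rw [← mul_smul, h3 q hq, mul_smul, h2]
  -- `M = N x ⊓ Q ≠ 1`
  obtain ⟨b, hb, hb1⟩ := S.exists_ne_one hxy
  obtain ⟨q, hq, hbq⟩ : ∃ q ∈ Q, b * q ≠ q * b := by
    by_contra hcon
    push Not at hcon
    exact hb1 (hcent b (S.fix x b hb.1) hb.2 hcon)
  set M : Subgroup G := N x ⊓ Q with hM
  have hbqM : b * q * b⁻¹ * q⁻¹ ∈ M := by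
    refine ⟨?_, ?_⟩
    · have h1 : b * q * b⁻¹ * q⁻¹ = b * (q * b⁻¹ * q⁻¹) := by group
      rw [h1]
      exact (N x).mul_mem (mem_A.1 hb).1 (S.mem_stab_conj ((N x).inv_mem (mem_A.1 hb).1) (hQx q hq))
    · exact Q.mul_mem (hQn b (S.fix x b hb.1) q hq) (Q.inv_mem hq)
  have hbqM1 : b * q * b⁻¹ * q⁻¹ ≠ 1 := by
    intro h1
    exact hbq (mul_inv_eq_iff_eq_mul.1 (mul_inv_eq_one.1 h1))
  -- `C` acts on `M` without fixed points
  have hCM : ∀ c ∈ A N y x, c ≠ 1 → ∀ u ∈ M, u * c = c * u → u = 1 := by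
    intro c hc hc1 u hu huc
    exact hQf u hu.2 (S.cent hc.1 hc1 huc)
  -- a prime dividing the order of `B` and `C`
  have h2A := S.two_le_card_A hxy
  obtain ⟨r, hr, hrd⟩ := Nat.exists_prime_and_dvd (show Nat.card (A N x y) ≠ 1 by omega)
  have hfr : Fact r.Prime := ⟨hr⟩
  obtain ⟨b₀, hb₀⟩ := exists_prime_orderOf_dvd_card' r hrd
  rw [S.card_A hxy hxy.symm] at hrd
  obtain ⟨c₀, hc₀⟩ := exists_prime_orderOf_dvd_card' r hrd
  obtain ⟨b', hb'⟩ := b₀
  obtain ⟨c', hc'⟩ := c₀
  rw [Subgroup.orderOf_mk] at hb₀ hc₀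
  have hb'1 : b' ≠ 1 := by
    rintro rfl
    rw [orderOf_one] at hb₀
    exact hr.one_lt.ne hb₀
  have hc'1 : c' ≠ 1 := by
    rintro rfl
    rw [orderOf_one] at hc₀
    exact hr.one_lt.ne hc₀
  have hbc : b' * c' = c' * b' := S.comm_AB hxy hb' hc'
  -- `r ≠ p`
  have hrp : r ≠ p := by
    rintro rfl
    have hMp : IsPGroup r M := hQp.to_le inf_le_right
    have hMne : Nontrivial M := ⟨⟨⟨_, hbqM⟩, 1, fun h1 => hbqM1 (congrArg Subtype.val h1)⟩⟩
    have hcz : ∀ k : ℤ, ∀ u ∈ M, c' ^ k * u * (c' ^ k)⁻¹ ∈ M := by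
      intro k u hu
      have hcx : (c' ^ k) • x = x := (zpow_mem hc' k : c' ^ k ∈ A N y x).2
      exact ⟨S.mem_stab_conj hu.1 hcx, hQn _ hcx u hu.2⟩
    have hle : zpowers c' ≤ normalizer (M : Set G) := by
      rw [zpowers_le, mem_normalizer_iff]
      intro u
      constructor
      · intro hu
        simpa using hcz 1 u hu
      · intro hu
        have := hcz (-1) _ hu
        simpa [mul_assoc] using this
    -- the group `⟨c'⟩` acts on `M`
    let act : MulAction (zpowers c') M :=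
      { smul := fun g u => ⟨g.1 * u.1 * g.1⁻¹, (mem_normalizer_iff.1 (hle g.2) u.1).1 u.2⟩
        one_smul := fun u => Subtype.ext (by
          change (1 : G) * u.1 * (1 : G)⁻¹ = u.1
          group)
        mul_smul := fun g g' u => Subtype.ext (by
          change (g.1 * g'.1) * u.1 * (g.1 * g'.1)⁻¹ = g.1 * (g'.1 * u.1 * g'.1⁻¹) * g.1⁻¹
          group) }
    have hzp : IsPGroup r (zpowers c') := by
      apply IsPGroup.of_card (n := 1)
      rw [Nat.card_zpowers, hc₀, pow_one]
    have hdvd : r ∣ Nat.card M := by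
      obtain ⟨k, hk⟩ := IsPGroup.iff_card.1 hMp
      rw [hk]
      apply dvd_pow_self
      rintro rfl
      rw [pow_zero] at hk
      have := Finite.one_lt_card (α := M)
      omega
    obtain ⟨v, hv, hv1⟩ := hzp.exists_fixed_point_of_prime_dvd_card_of_fixed_point M hdvd
      (a := (1 : M)) (fun g => Subtype.ext (by
        change g.1 * (1 : G) * g.1⁻¹ = 1
        group))
    have h1 := congrArg Subtype.val (hv ⟨c', mem_zpowers c'⟩)
    have h2 : c' * v.1 * c'⁻¹ = v.1 := h1
    apply hv1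
    symm
    apply Subtype.ext
    exact hCM c' hc' hc'1 v.1 v.2 (mul_inv_eq_iff_eq_mul.1 h2).symm
  -- the noncyclic group `E = ⟨b', c'⟩`
  set E : Subgroup G := closure {b', c'} with hE
  have hEcomm : IsMulCommutative E := by
    apply Subgroup.isMulCommutative_closure
    rintro u (rfl | rfl) v (rfl | rfl)
    · rfl
    · exact hbc
    · exact hbc.symm
    · rfl
  have hEc : ∀ u ∈ E, ∀ v ∈ E, u * v = v * u := fun u hu v hv =>
    congrArg Subtype.val (mul_comm' (⟨u, hu⟩ : E) ⟨v, hv⟩)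
  have hbE : b' ∈ E := subset_closure (Or.inl rfl)
  have hcE : c' ∈ E := subset_closure (Or.inr rfl)
  have hEr : ∀ u ∈ E, u ^ r = 1 := by
    intro u hu
    induction hu using Subgroup.closure_induction with
    | mem u hu =>
      rcases hu with rfl | rfl
      · rw [← hb₀]; exact pow_orderOf_eq_one _
      · rw [← hc₀]; exact pow_orderOf_eq_one _
    | one => exact one_pow r
    | mul u v hu hv h1 h2 =>
      have h3 : Commute u v := hEc u hu v hv
      rw [h3.mul_pow, h1, h2, one_mul]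
    | inv u _ h1 => rw [inv_pow, h1, inv_one]
  have hEfix : ∀ u ∈ E, u • x = x ∧ u • y = y := by
    intro u hu
    have : E ≤ stabilizer G x ⊓ stabilizer G y := by
      rw [hE, closure_le]
      rintro v (rfl | rfl)
      · exact ⟨S.fix x _ hb'.1, hb'.2⟩
      · exact ⟨hc'.2, S.fix y _ hc'.1⟩
    exact this hu
  have hEncyc : ¬ IsCyclic E := by
    intro hcy
    have h1 : zpowers b' = zpowers c' := by
      apply cyclic_unique hcy (zpowers_le.2 hbE) (zpowers_le.2 hcE)
      rw [Nat.card_zpowers, Nat.card_zpowers, hb₀, hc₀]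
    have h2 : b' ∈ zpowers c' := by rw [← h1]; exact mem_zpowers b'
    have h3 : b' ∈ A N y x := (zpowers_le.2 hc') h2
    exact hb'1 (S.ti x y hxy b' hb'.1 h3.1)
  have hEp : IsPGroup r E := by
    intro u
    refine ⟨1, ?_⟩
    rw [pow_one]
    exact Subtype.ext (hEr u.1 u.2)
  have hcop : (Nat.card E).Coprime (Nat.card Q) := IsPGroup.coprime_card_of_ne r p hrp E Q hEp hQp
  have hEn : E ≤ normalizer (Q : Set G) := by
    intro u hu
    rw [mem_normalizer_iff]
    intro v
    constructor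
    · exact hQn u (hEfix u hu).1 v
    · intro hv
      have h1 := hQn u⁻¹ (by rw [inv_smul_eq_iff, (hEfix u hu).1]) _ hv
      have h2 : u⁻¹ * (u * v * u⁻¹) * u⁻¹⁻¹ = v := by group
      rwa [h2] at h1
  have hgen := Cfsg.Agent.S0058.result E Q hEncyc hEn hcop
  have hle : Q ≤ Φ := by
    rw [← hgen]
    apply iSup₂_le
    rintro e ⟨he, he1⟩
    have hecomm : ∀ h ∈ T, h • x = x → h • y = y → h * e = e * h := by
      intro h hhT h1 h2
      have h3 : E ≤ centralizer {h} := by
        rw [hE, closure_le]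
        rintro v (rfl | rfl)
        · exact mem_centralizer_singleton_iff.2 (hcomB h hhT h1 h2 _ hb').symm
        · exact mem_centralizer_singleton_iff.2 (hcomC h hhT h1 h2 _ hc').symm
      exact (mem_centralizer_singleton_iff.1 (h3 he)).symm
    rcases hirr (Q ⊓ centralizer {e}) inf_le_left (by
      intro h hhT h1 h2 u hu
      have hue := (Subgroup.mem_inf.1 hu).2
      refine Subgroup.mem_inf.2 ⟨hQn h h1 u (Subgroup.mem_inf.1 hu).1, ?_⟩
      rw [mem_centralizer_singleton_iff] at hue ⊢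
      have h3 : Commute h e := hecomm h hhT h1 h2
      have h4 : Commute u e := hue
      exact ((h3.mul_left h4).mul_left h3.inv_left).eq) with h1 | h1
    · exact h1
    · exfalso
      apply he1
      apply hcent e (hEfix e he).1 (hEfix e he).2
      intro q hq
      have h2 : q ∈ Q ⊓ centralizer {e} := by rw [h1]; exact hq
      exact (mem_centralizer_singleton_iff.1 h2.2).symm
  exact absurd hle (not_le_of_gt hΦ)

end Cfsg.Agent.H88.NoTI
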