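import Mathlib

/-!
# Rank one actions are determined by their degree (helper88)

Let the finite group `T` act 2-transitively on `Y`, where `|Y| = p ^ a + 1` (`p` prime, `a > 0`) and
`|T| < |Y| ^ 2 * p ^ a` (i.e. the two-point stabilisers have order less than `|Y|`). Then every transitive action of
`T` on a set `X` with `|X| = |Y|` is equivalent to the action on `Y`.

* `stab_eq` : every stabiliser of the action on `X` is a stabiliser of the action on `Y`;
* `exists_equiv` : a `T`-equivariant bijection `X ≃ Y`.
-/

set_option autoImplicit false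

namespace Cfsg.Agent.H88.RankOne

open MulAction

variable {T X Y : Type*} [Group T] [MulAction T X] [MulAction T Y]

theorem transitive_of_two (hY : IsMultiplyPretransitive T Y 2) [Nontrivial Y] : IsPretransitive T Y := by
  refine ⟨fun u v => ?_⟩
  by_cases huv : u = v
  · exact ⟨1, by rw [one_smul, huv]⟩
  · obtain ⟨g, hg, -⟩ := is_two_pretransitive_iff.mp hY huv (Ne.symm huv)
    exact ⟨g, hg⟩

/-- the stabiliser of `y` is transitive on the remaining points, so its order is `|Y| - 1` times the order of the
stabiliser of two points -/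
theorem card_stab_two [Finite T] [Finite Y] (hY : IsMultiplyPretransitive T Y 2) {y z : Y} (hyz : z ≠ y) :
    Nat.card (stabilizer T y) = (Nat.card Y - 1) * Nat.card (stabilizer (stabilizer T y) z) := by
  classical
  have h1 : orbit (stabilizer T y) z = {w | w ≠ y} := by
    ext w
    constructor
    · rintro ⟨g, rfl⟩ hgw
      apply hyz
      have h3 : (g : T) • z = y := hgw
      have h4 : (g : T) • y = y := g.2
      exact MulAction.injective (g : T) (h3.trans h4.symm)
    · intro hw
      obtain ⟨g, hg, hg'⟩ := is_two_pretransitive_iff.mp hY (Ne.symm hyz) (Ne.symm hw)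
      exact ⟨⟨g, hg⟩, hg'⟩
  have h2 : Nat.card (orbit (stabilizer T y) z) = Nat.card Y - 1 := by
    rw [h1, Nat.card_coe_set_eq]
    have h3 : {w : Y | w ≠ y} = {y}ᶜ := by ext w; simp
    rw [h3, Set.ncard_compl, Set.ncard_singleton]
  rw [← h2, ← Nat.card_prod]
  exact (Nat.card_congr (orbitProdStabilizerEquivGroup (stabilizer T y) z)).symm

theorem stab_eq [Finite T] [Finite X] [Finite Y] (hX : IsPretransitive T X)
    (hY : IsMultiplyPretransitive T Y 2) (hcard : Nat.card X = Nat.card Y) {p a : ℕ} (hp : p.Prime) (ha : 0 < a)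
    (hn : Nat.card Y = p ^ a + 1) (hlt : Nat.card T < Nat.card Y ^ 2 * p ^ a) (x : X) :
    ∃ y : Y, stabilizer T x = stabilizer T y := by
  classical
  have : Fact p.Prime := ⟨hp⟩
  have hpa : 0 < p ^ a := pow_pos hp.pos a
  have hntY : Nontrivial Y := Finite.one_lt_card_iff_nontrivial.1 (by omega)
  have hYt : IsPretransitive T Y := transitive_of_two hY
  have hidxX : (stabilizer T x).index = Nat.card Y := by
    rw [index_stabilizer_of_transitive, hcard]
  have hidxY : ∀ y : Y, (stabilizer T y).index = Nat.card Y := fun y => by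
    rw [index_stabilizer_of_transitive]
  have hcardS : ∀ y : Y, Nat.card (stabilizer T y) = Nat.card (stabilizer T x) := by
    intro y
    have h1 := (stabilizer T x).index_mul_card
    have h2 := (stabilizer T y).index_mul_card
    rw [hidxX] at h1
    rw [hidxY y] at h2
    exact Nat.eq_of_mul_eq_mul_left (by omega) (h2.trans h1.symm)
  have hcop : ¬ p ∣ Nat.card Y := by
    intro hd
    rw [hn] at hd
    have h1 : p ∣ p ^ a := dvd_pow_self p ha.ne'
    have h3 := (Nat.dvd_add_right h1).1 hd
    exact hp.one_lt.ne' (Nat.dvd_one.1 h3)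
  -- a Sylow `p`-subgroup of the stabiliser of `x` fixes a point `y`
  obtain ⟨P⟩ : Nonempty (Sylow p (stabilizer T x)) := inferInstance
  set Q : Subgroup T := (P : Subgroup (stabilizer T x)).map (stabilizer T x).subtype with hQdef
  have hQp : IsPGroup p Q := P.2.map _
  obtain ⟨y, hy⟩ := hQp.nonempty_fixed_point_of_prime_not_dvd_card Y hcop
  have hQy : ∀ g ∈ Q, g • y = y := fun g hg => hy ⟨g, hg⟩
  have hcardQ : Nat.card Q = Nat.card P :=
    Subgroup.card_map_of_injective (Subgroup.subtype_injective _)
  -- `Q` is transitive on the remaining points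
  have hQt : ∀ z : Y, z ≠ y → ∀ w : Y, w ≠ y → ∃ g ∈ Q, g • z = w := by
    intro z hz w hw
    have h1 : Nat.card Q = Nat.card (orbit Q z) * Nat.card (stabilizer Q z) := by
      rw [← Nat.card_prod]
      exact (Nat.card_congr (orbitProdStabilizerEquivGroup Q z)).symm
    have h2 := card_stab_two hY hz
    have h3 : Nat.card (stabilizer Q z) ∣ Nat.card (stabilizer (stabilizer T y) z) := by
      let f : stabilizer Q z →* stabilizer (stabilizer T y) z :=
        { toFun := fun g => ⟨⟨g.1.1, hQy g.1.1 g.1.2⟩, g.2⟩
          map_one' := rfl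
          map_mul' := fun _ _ => rfl }
      apply Subgroup.card_dvd_of_injective f
      intro g g' hgg
      have h4 := congrArg (fun t : stabilizer (stabilizer T y) z => ((t : stabilizer T y) : T)) hgg
      exact Subtype.ext (Subtype.ext h4)
    obtain ⟨c, hc⟩ := h3
    have h4 := (P : Subgroup (stabilizer T x)).card_mul_index
    have h5 := P.not_dvd_index
    have hpos : 0 < Nat.card (stabilizer Q z) := Nat.card_pos
    have h6 : p ^ a * c = Nat.card (orbit Q z) * (P : Subgroup (stabilizer T x)).index := by
      apply Nat.eq_of_mul_eq_mul_left hpos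
      have e1 : Nat.card (stabilizer Q z) * (p ^ a * c) = Nat.card (stabilizer T x) := by
        rw [← hcardS y, h2, hc, hn]
        simp only [Nat.add_sub_cancel]
        ring
      rw [e1, ← h4]
      change Nat.card P * _ = _
      rw [← hcardQ, h1]
      ring
    have h7 : p ^ a ∣ Nat.card (orbit Q z) := by
      have h8 : Nat.Coprime (p ^ a) (P : Subgroup (stabilizer T x)).index :=
        Nat.Coprime.pow_left _ ((Nat.Prime.coprime_iff_not_dvd hp).2 h5)
      exact h8.dvd_of_dvd_mul_right (Dvd.intro _ h6)
    have h8 : orbit Q z ⊆ {w | w ≠ y} := by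
      rintro w ⟨g, rfl⟩ hgw
      apply hz
      have h3 : (g : T) • z = y := hgw
      exact MulAction.injective (g : T) (h3.trans (hQy g.1 g.2).symm)
    have h9 : orbit Q z = {w | w ≠ y} := by
      apply Set.eq_of_subset_of_ncard_le h8
      have h3 : {w : Y | w ≠ y} = {y}ᶜ := by ext w; simp
      rw [h3, Set.ncard_compl, Set.ncard_singleton, hn]
      rw [← Nat.card_coe_set_eq]
      have hne : Nonempty (orbit Q z) := ⟨⟨z, mem_orbit_self z⟩⟩
      have := Nat.le_of_dvd Nat.card_pos h7
      simpa using this
    have h10 : w ∈ orbit Q z := by rw [h9]; exact hw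
    obtain ⟨g, hg⟩ := h10
    exact ⟨g.1, g.2, hg⟩
  have hQx : ∀ g ∈ Q, g • x = x := by
    rintro g ⟨g', -, rfl⟩
    exact g'.2
  refine ⟨y, ?_⟩
  have hle : stabilizer T x ≤ stabilizer T y := by
    intro g hg
    by_contra hgy
    have hgy' : g • y ≠ y := hgy
    -- the stabiliser of `x` is transitive on `Y`
    have hall : ∀ w : Y, w ∈ orbit (stabilizer T x) y := by
      intro w
      by_cases hw : w = y
      · rw [hw]; exact mem_orbit_self y
      · obtain ⟨k, hk, hk'⟩ := hQt (g • y) hgy' w hw
        refine ⟨⟨k * g, mul_mem (hQx k hk) hg⟩, ?_⟩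
        change (k * g) • y = w
        rw [mul_smul, hk']
    have h1 : Nat.card (stabilizer T x) = Nat.card (orbit (stabilizer T x) y) *
        Nat.card (stabilizer (stabilizer T x) y) := by
      rw [← Nat.card_prod]
      exact (Nat.card_congr (orbitProdStabilizerEquivGroup (stabilizer T x) y)).symm
    have h2 : Nat.card (orbit (stabilizer T x) y) = Nat.card Y := by
      rw [Nat.card_coe_set_eq, show orbit (stabilizer T x) y = Set.univ from Set.eq_univ_of_forall hall,
        Set.ncard_univ]
    have h3 : Nat.card Y ∣ Nat.card (stabilizer T x) := by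
      rw [h1, h2]
      exact Dvd.intro _ rfl
    obtain ⟨z, hz⟩ := exists_ne y
    have h4 : p ^ a ∣ Nat.card (stabilizer T x) := by
      rw [← hcardS y, card_stab_two hY hz, hn, Nat.add_sub_cancel]
      exact Dvd.intro _ rfl
    have h5 : Nat.Coprime (Nat.card Y) (p ^ a) :=
      Nat.Coprime.pow_right _ ((Nat.Prime.coprime_iff_not_dvd hp).2 hcop).symm
    have h6 := h5.mul_dvd_of_dvd_of_dvd h3 h4
    have h7 := Nat.le_of_dvd Nat.card_pos h6
    have h8 := (stabilizer T x).index_mul_card
    rw [hidxX] at h8
    rw [← h8] at hlt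
    have h9 : Nat.card Y ^ 2 * p ^ a ≤ Nat.card Y * Nat.card (stabilizer T x) := by
      rw [pow_two, mul_assoc]
      exact Nat.mul_le_mul_left _ h7
    exact absurd hlt (not_lt.2 h9)
  exact Subgroup.eq_of_le_of_card_ge hle (hcardS y).le

/-- two transitive actions with a common point stabiliser are equivalent -/
theorem exists_equiv_of_stab (hX : IsPretransitive T X) (hY : IsPretransitive T Y) {x : X} {y : Y}
    (h : stabilizer T x = stabilizer T y) : ∃ e : X ≃ Y, e x = y ∧ ∀ (t : T) (w : X), e (t • w) = t • e w := by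
  classical
  have key : ∀ s t : T, s • x = t • x ↔ s • y = t • y := by
    intro s t
    have h1 : s • x = t • x ↔ t⁻¹ * s ∈ stabilizer T x := by
      rw [mem_stabilizer_iff, mul_smul, inv_smul_eq_iff]
    have h2 : s • y = t • y ↔ t⁻¹ * s ∈ stabilizer T y := by
      rw [mem_stabilizer_iff, mul_smul, inv_smul_eq_iff]
    rw [h1, h2, h]
  choose f hf using fun w : X => hX.exists_smul_eq x w
  have he : ∀ t : T, f (t • x) • y = t • y := fun t => (key _ _).1 (hf (t • x))
  have hbij : Function.Bijective (fun w : X => f w • y) := by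
    constructor
    · intro w w' hww
      have h1 := (key _ _).2 hww
      rw [hf, hf] at h1
      exact h1
    · intro z
      obtain ⟨t, rfl⟩ := hY.exists_smul_eq y z
      exact ⟨t • x, he t⟩
  refine ⟨Equiv.ofBijective _ hbij, ?_, ?_⟩
  · have := he 1
    rw [one_smul, one_smul] at this
    exact this
  · intro t w
    change f (t • w) • y = t • f w • y
    have h1 : t • w = (t * f w) • x := by rw [mul_smul, hf]
    rw [h1, he, mul_smul]

theorem exists_equiv [Finite T] [Finite X] [Finite Y] (hX : IsPretransitive T X)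
    (hY : IsMultiplyPretransitive T Y 2) (hcard : Nat.card X = Nat.card Y) {p a : ℕ} (hp : p.Prime) (ha : 0 < a)
    (hn : Nat.card Y = p ^ a + 1) (hlt : Nat.card T < Nat.card Y ^ 2 * p ^ a) :
    ∃ e : X ≃ Y, ∀ (t : T) (w : X), e (t • w) = t • e w := by
  have hpa : 0 < p ^ a := pow_pos hp.pos a
  have hntY : Nontrivial Y := Finite.one_lt_card_iff_nontrivial.1 (by omega)
  have hntX : Nontrivial X := Finite.one_lt_card_iff_nontrivial.1 (by omega)
  obtain ⟨x, -⟩ := exists_pair_ne X
  obtain ⟨y, hy⟩ := stab_eq hX hY hcard hp ha hn hlt x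
  obtain ⟨e, -, he⟩ := exists_equiv_of_stab hX (transitive_of_two hY) hy
  exact ⟨e, he⟩

/-- 2-transitivity is transported by an equivariant bijection -/
theorem two_of_equiv (hY : IsMultiplyPretransitive T Y 2) (e : X ≃ Y) (he : ∀ (t : T) (w : X), e (t • w) = t • e w) :
    IsMultiplyPretransitive T X 2 := by
  rw [is_two_pretransitive_iff] at hY ⊢
  intro a b c d hab hcd
  obtain ⟨g, h1, h2⟩ := hY (a := e a) (b := e b) (c := e c) (d := e d) (fun h => hab (e.injective h))
    (fun h => hcd (e.injective h))
  exact ⟨g, e.injective (by rw [he, h1]), e.injective (by rw [he, h2])⟩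

theorem fixed_of_equiv (e : X ≃ Y) (he : ∀ (t : T) (w : X), e (t • w) = t • e w) (t : T) (w : X) :
    t • w = w ↔ t • e w = e w := by
  rw [← he, e.injective.eq_iff]

end Cfsg.Agent.H88.RankOne
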