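import Mathlib
import Cfsg.Agent.H88.RankOne
import Cfsg.Agent.H88.NoTI
import Cfsg.Agent.LieRecognition.RankOneAbstract

/-!
# Rank one groups with cyclic torus acting irreducibly on the Frattini quotient of the unipotent radical (helper88)

* `Rk p H S Φ w` : rank one Bruhat data `Data H S w` (`H` the Borel subgroup, `S` its unipotent radical) such that the
  torus `tor H w = H ∩ w H w⁻¹` is cyclic, of order prime to `p` and at most `|S|`, and every proper `tor`-invariant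
  subgroup of the `p`-group `S` is contained in `Φ < S`;
* `Rk.exists_points` : the structure of the stabilisers in any transitive action of degree `|S| + 1`;
* `Rk.not_sys` : a 2-transitive group of degree `|S| + 1` with such a normal subgroup has no non-semiregular TI family.
-/

set_option autoImplicit false

namespace Cfsg.Agent.H88

open MulAction Cfsg.Agent.LieRecognition.RankOneAbstract Cfsg.Agent.H360.ON

theorem card_stab_inf {T Y : Type*} [Group T] [MulAction T Y] [Finite T] [Finite Y]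
    (hY : IsMultiplyPretransitive T Y 2) {y z : Y} (hyz : z ≠ y) :
    Nat.card (stabilizer T y) = (Nat.card Y - 1) * Nat.card ↥(stabilizer T y ⊓ stabilizer T z) := by
  rw [RankOne.card_stab_two hY hyz]
  congr 1
  exact Nat.card_congr ⟨fun t => ⟨t.1.1, t.1.2, t.2⟩, fun t => ⟨⟨t.1, t.2.1⟩, t.2.2⟩, fun _ => rfl, fun _ => rfl⟩

/-- the two-point stabiliser -/
def tor {T : Type*} [Group T] (H : Subgroup T) (w : T) : Subgroup T := H ⊓ H.map (MulAut.conj w).toMonoidHom

theorem mem_tor {T : Type*} [Group T] {H : Subgroup T} {w g : T} : g ∈ tor H w ↔ g ∈ H ∧ w⁻¹ * g * w ∈ H := by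
  unfold tor
  rw [Subgroup.mem_inf]
  refine and_congr_right fun _ => ?_
  constructor
  · rintro ⟨k, hk, rfl⟩
    have : w⁻¹ * (MulAut.conj w).toMonoidHom k * w = k := by
      change w⁻¹ * (w * k * w⁻¹) * w = k
      group
    rw [this]
    exact hk
  · intro h
    refine ⟨w⁻¹ * g * w, h, ?_⟩
    change w * (w⁻¹ * g * w) * w⁻¹ = g
    group

/-- rank one data with a cyclic torus acting irreducibly on the Frattini quotient of the unipotent radical -/
structure Rk {T : Type*} [Group T] (p : ℕ) (H S Φ : Subgroup T) (w : T) : Prop where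
  prime : p.Prime
  data : Data H S w
  ne : S ≠ ⊥
  pgrp : IsPGroup p S
  cyc : IsCyclic ↥(tor H w)
  cop : ¬ p ∣ Nat.card (tor H w)
  small : Nat.card (tor H w) ≤ Nat.card S
  lt : Φ < S
  irr : ∀ R ≤ S, (∀ h ∈ H, w⁻¹ * h * w ∈ H → ∀ r ∈ R, h * r * h⁻¹ ∈ R) → R ≤ Φ ∨ R = S

namespace Rk

variable {T : Type*} [Group T] {p : ℕ} {H S Φ : Subgroup T} {w : T}

theorem mem_stab_one (g : T) : g • (QuotientGroup.mk 1 : T ⧸ H) = QuotientGroup.mk 1 ↔ g ∈ H := by
  change (QuotientGroup.mk (g * 1) : T ⧸ H) = QuotientGroup.mk 1 ↔ g ∈ H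
  rw [QuotientGroup.eq, mul_one, mul_one]
  exact H.inv_mem_iff

theorem mem_stab_w (g : T) : g • (QuotientGroup.mk w : T ⧸ H) = QuotientGroup.mk w ↔ w⁻¹ * g * w ∈ H := by
  change (QuotientGroup.mk (g * w) : T ⧸ H) = QuotientGroup.mk w ↔ _
  rw [QuotientGroup.eq, ← H.inv_mem_iff]
  have : ((g * w)⁻¹ * w)⁻¹ = w⁻¹ * g * w := by group
  rw [this]

theorem mk_ne (D : Data H S w) : (QuotientGroup.mk w : T ⧸ H) ≠ QuotientGroup.mk 1 := by
  intro h
  rw [QuotientGroup.eq, mul_one, H.inv_mem_iff] at h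
  exact D.w_not_mem h

variable (R : Rk p H S Φ w)

include R

variable [Finite T]

theorem card_eq : Nat.card T = (Nat.card S + 1) * (Nat.card S * Nat.card (tor H w)) := by
  have h1 := R.data.index
  have h2 := H.index_mul_card
  rw [h1] at h2
  rw [← h2]
  congr 1
  have h3 := card_stab_inf R.data.two_pretransitive (mk_ne R.data)
  have h4 : Nat.card (T ⧸ H) = Nat.card S + 1 := h1
  rw [h4, Nat.add_sub_cancel] at h3
  have h5 : stabilizer T (QuotientGroup.mk 1 : T ⧸ H) = H := by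
    ext g
    exact mem_stab_one g
  have h6 : stabilizer T (QuotientGroup.mk 1 : T ⧸ H) ⊓ stabilizer T (QuotientGroup.mk w : T ⧸ H) = tor H w := by
    ext g
    rw [mem_tor, Subgroup.mem_inf]
    exact and_congr (mem_stab_one g) (mem_stab_w g)
  rw [h6, h5] at h3
  exact h3

theorem exists_card : ∃ a : ℕ, 0 < a ∧ Nat.card S = p ^ a := by
  have : Fact p.Prime := ⟨R.prime⟩
  obtain ⟨a, ha⟩ := IsPGroup.iff_card.1 R.pgrp
  refine ⟨a, ?_, ha⟩
  rcases Nat.eq_zero_or_pos a with rfl | h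
  · exfalso
    rw [pow_zero] at ha
    exact R.ne (Subgroup.card_eq_one.1 ha)
  · exact h

/-- an element of `H` of `p`-power order is in `S` -/
theorem mem_of_pow {t : T} (ht : t ∈ H) {k : ℕ} (hk : t ^ (p ^ k) = 1) : t ∈ S := by
  have : Fact p.Prime := ⟨R.prime⟩
  have hSn : (S.subgroupOf H).Normal := by
    refine ⟨fun n hn g => ?_⟩
    rw [Subgroup.mem_subgroupOf] at hn ⊢
    exact R.data.norm _ g.2 _ hn
  have h1 : (S.subgroupOf H).index = Nat.card (tor H w) := by
    have h2 := (S.subgroupOf H).index_mul_card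
    have h3 : Nat.card (S.subgroupOf H) = Nat.card S :=
      Nat.card_congr (Subgroup.subgroupOfEquivOfLe R.data.le).toEquiv
    have h4 := R.card_eq
    rw [← H.index_mul_card, R.data.index] at h4
    have h5 := Nat.eq_of_mul_eq_mul_left (by omega) h4
    rw [h3, h5, mul_comm] at h2
    exact Nat.eq_of_mul_eq_mul_left Nat.card_pos h2
  set x : H ⧸ S.subgroupOf H := QuotientGroup.mk ⟨t, ht⟩ with hx
  have h2 : orderOf x ∣ p ^ k := by
    apply orderOf_dvd_of_pow_eq_one
    rw [hx, ← QuotientGroup.mk_pow]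
    have h3 : (⟨t, ht⟩ : H) ^ (p ^ k) = 1 := Subtype.ext hk
    rw [h3]
    rfl
  have h3 : orderOf x ∣ Nat.card (tor H w) := by
    rw [← h1]
    exact orderOf_dvd_natCard x
  have h4 : orderOf x = 1 := by
    have h5 : Nat.Coprime (p ^ k) (Nat.card (tor H w)) :=
      Nat.Coprime.pow_left _ ((Nat.Prime.coprime_iff_not_dvd R.prime).2 R.cop)
    exact Nat.eq_one_of_dvd_coprimes h5 h2 h3
  rw [orderOf_eq_one_iff] at h4
  exact (QuotientGroup.eq_one_iff (⟨t, ht⟩ : H)).1 h4

variable {X : Type*} [MulAction T X] [Finite X]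

theorem exists_equiv (hX : IsPretransitive T X) (hn : Nat.card X = Nat.card S + 1) :
    ∃ e : X ≃ T ⧸ H, ∀ (t : T) (z : X), e (t • z) = t • e z := by
  obtain ⟨a, ha, hSa⟩ := R.exists_card
  have h4 : Nat.card (T ⧸ H) = Nat.card S + 1 := R.data.index
  have hnt : Nontrivial (T ⧸ H) := ⟨⟨_, _, mk_ne R.data⟩⟩
  refine RankOne.exists_equiv hX R.data.two_pretransitive (hn.trans h4.symm) R.prime ha (by rw [h4, hSa]) ?_
  rw [h4, ← hSa, R.card_eq, pow_two, mul_assoc]
  have h5 : 0 < Nat.card S := Nat.card_pos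
  apply Nat.mul_lt_mul_of_pos_left _ (by omega)
  rw [mul_comm]
  apply Nat.mul_lt_mul_of_pos_right _ h5
  have := R.small
  omega

/-- the structure of the stabilisers in a transitive action of degree `|S| + 1` -/
theorem exists_points (hX : IsPretransitive T X) (hn : Nat.card X = Nat.card S + 1) (x : X) :
    ∃ y : X, x ≠ y ∧ ∃ Q Ψ : Subgroup T, (∀ q ∈ Q, q • x = x) ∧
      (∀ t : T, t • x = x → (∃ k : ℕ, t ^ (p ^ k) = 1) → t ∈ Q) ∧ IsPGroup p Q ∧
      (∀ z, z ≠ x → ∃ q ∈ Q, q • y = z) ∧ (∀ q ∈ Q, q • y = y → q = 1) ∧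
      IsCyclic ↥(stabilizer T x ⊓ stabilizer T y) ∧ Ψ < Q ∧
      ∀ A ≤ Q, (∀ h : T, h • x = x → h • y = y → ∀ r ∈ A, h * r * h⁻¹ ∈ A) → A ≤ Ψ ∨ A = Q := by
  obtain ⟨e, he⟩ := R.exists_equiv hX hn
  have hYt : IsPretransitive T (T ⧸ H) := inferInstance
  obtain ⟨g, hg⟩ := hYt.exists_smul_eq (e x) (QuotientGroup.mk 1)
  set y : X := e.symm (g⁻¹ • (QuotientGroup.mk w : T ⧸ H)) with hy
  have hgy : g • e y = QuotientGroup.mk w := by rw [hy, Equiv.apply_symm_apply, smul_inv_smul]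
  have key : ∀ (t : T) (u v : X), t • u = v ↔ (g * t * g⁻¹) • g • e u = g • e v := by
    intro t u v
    rw [← mul_smul, inv_mul_cancel_right, mul_smul, smul_left_cancel_iff, ← he, e.injective.eq_iff]
  have hsx : ∀ t : T, t • x = x ↔ g * t * g⁻¹ ∈ H := by
    intro t
    rw [key, hg, mem_stab_one]
  have hsy : ∀ t : T, t • y = y ↔ w⁻¹ * (g * t * g⁻¹) * w ∈ H := by
    intro t
    rw [key, hgy, mem_stab_w]
  have hxy : x ≠ y := by
    intro h
    rw [← h, hg] at hgy
    exact mk_ne R.data hgy.symm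
  have hcomap : ∀ (A : Subgroup T) (t : T), t ∈ A.comap (MulAut.conj g).toMonoidHom ↔ g * t * g⁻¹ ∈ A :=
    fun A t => Iff.rfl
  refine ⟨y, hxy, S.comap (MulAut.conj g).toMonoidHom, Φ.comap (MulAut.conj g).toMonoidHom, ?_, ?_, ?_, ?_, ?_, ?_,
    ?_, ?_⟩
  · intro q hq
    rw [hcomap] at hq
    exact (hsx q).2 (R.data.le hq)
  · rintro t ht ⟨k, hk⟩
    rw [hcomap]
    apply R.mem_of_pow ((hsx t).1 ht) (k := k)
    rw [conj_pow, hk]
    group
  · have h1 : Function.Injective (MulAut.conj g).toMonoidHom := (MulAut.conj g).injective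
    exact R.pgrp.comap_of_injective _ h1
  · intro z hz
    have h1 : g • e z ≠ (QuotientGroup.mk 1 : T ⧸ H) := by
      rw [← hg]
      intro h
      exact hz (e.injective (smul_left_cancel g h))
    obtain ⟨s, hs⟩ := R.data.exists_eq _ h1
    refine ⟨g⁻¹ * s * g, ?_, ?_⟩
    · rw [hcomap]
      have : g * (g⁻¹ * (s : T) * g) * g⁻¹ = s := by group
      rw [this]
      exact s.2
    · rw [key, hgy]
      have : g * (g⁻¹ * (s : T) * g) * g⁻¹ = s := by group
      rw [this]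
      exact hs
  · intro q hq hqy
    rw [hcomap] at hq
    have h1 := R.data.inter _ hq ((hsy q).1 hqy)
    exact conj_eq_one_iff.1 h1
  · have hcyc := R.cyc
    let f : ↥(stabilizer T x ⊓ stabilizer T y) →* tor H w :=
      { toFun := fun t => ⟨g * t.1 * g⁻¹, mem_tor.2 ⟨(hsx _).1 t.2.1, (hsy _).1 t.2.2⟩⟩
        map_one' := by
          apply Subtype.ext
          simp
        map_mul' := fun a b => by
          apply Subtype.ext
          simp [mul_assoc] }
    apply isCyclic_of_injective f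
    intro a b hab
    have h3 := congrArg Subtype.val hab
    simp only [f, MonoidHom.coe_mk, OneHom.coe_mk, mul_left_inj, mul_right_inj] at h3
    exact Subtype.ext h3
  · obtain ⟨h1, h2⟩ := SetLike.lt_iff_le_and_exists.1 R.lt
    rw [SetLike.lt_iff_le_and_exists]
    refine ⟨Subgroup.comap_mono h1, ?_⟩
    obtain ⟨s, hs, hs'⟩ := h2
    refine ⟨g⁻¹ * s * g, ?_, ?_⟩
    · rw [hcomap]
      have : g * (g⁻¹ * s * g) * g⁻¹ = s := by group
      rwa [this]
    · rw [hcomap]
      have : g * (g⁻¹ * s * g) * g⁻¹ = s := by group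
      rwa [this]
  · intro A hA hinv
    have h1 : A.map (MulAut.conj g).toMonoidHom ≤ S := Subgroup.map_le_iff_le_comap.2 hA
    rcases R.irr _ h1 (by
      rintro h hh hhw r ⟨a, ha, rfl⟩
      have h2 : g⁻¹ * h * g * a * (g⁻¹ * h * g)⁻¹ ∈ A := by
        have e1 : g * (g⁻¹ * h * g) * g⁻¹ = h := by group
        apply hinv _ _ _ _ ha
        · rw [hsx, e1]; exact hh
        · rw [hsy, e1]; exact hhw
      refine ⟨_, h2, ?_⟩
      change g * (g⁻¹ * h * g * a * (g⁻¹ * h * g)⁻¹) * g⁻¹ = h * (g * a * g⁻¹) * h⁻¹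
      group) with h2 | h2
    · left
      exact Subgroup.map_le_iff_le_comap.1 h2
    · right
      rw [← h2]
      exact (Subgroup.comap_map_eq_self_of_injective (MulAut.conj g).injective A).symm

end Rk

/-- transport along a surjective homomorphism whose kernel is contained in the Borel subgroup -/
theorem Rk.quot {T T' : Type*} [Group T] [Finite T] [Group T'] {p : ℕ} {H S Φ : Subgroup T} {w : T}
    (R : Rk p H S Φ w) (f : T →* T') (hf : Function.Surjective f) (hk : f.ker ≤ H) :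
    Rk p (H.map f) (S.map f) (Φ.map f) (f w) := by
  have hmemH : ∀ g, f g ∈ H.map f ↔ g ∈ H := by
    intro g
    constructor
    · rintro ⟨h, hh, hfh⟩
      have h1 : h⁻¹ * g ∈ f.ker := by rw [MonoidHom.mem_ker, map_mul, map_inv, hfh, inv_mul_cancel]
      have h2 := H.mul_mem hh (hk h1)
      rwa [mul_inv_cancel_left] at h2
    · intro hg
      exact ⟨g, hg, rfl⟩
  have hinj : ∀ s ∈ S, f s = 1 → s = 1 := by
    intro s hs h1
    apply R.data.inter s hs
    apply hk
    rw [MonoidHom.mem_ker, map_mul, map_mul, h1, mul_one, ← map_mul, inv_mul_cancel, map_one]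
  have hinj2 : ∀ s ∈ S, ∀ t ∈ S, f s = f t → s = t := by
    intro s hs t ht h1
    have h2 := hinj (t⁻¹ * s) (S.mul_mem (S.inv_mem ht) hs) (by rw [map_mul, map_inv, h1, inv_mul_cancel])
    exact (inv_mul_eq_one.1 h2).symm
  have hmemS : ∀ s ∈ S, ∀ A ≤ S, f s ∈ A.map f ↔ s ∈ A := by
    intro s hs A hA
    constructor
    · rintro ⟨a, ha, h1⟩
      rwa [← hinj2 a (hA ha) s hs h1]
    · intro h
      exact ⟨s, h, rfl⟩
  have htor : tor (H.map f) (f w) = (tor H w).map f := by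
    ext g
    obtain ⟨g, rfl⟩ := hf g
    rw [mem_tor, hmemH, ← map_inv, ← map_mul, ← map_mul, hmemH]
    constructor
    · intro h
      exact ⟨g, mem_tor.2 h, rfl⟩
    · rintro ⟨h, hh, hfh⟩
      have h1 := mem_tor.1 hh
      constructor
      · rw [← hmemH, ← hfh, hmemH]
        exact h1.1
      · have h2 : f (w⁻¹ * g * w) = f (w⁻¹ * h * w) := by simp only [map_mul, map_inv, hfh]
        rw [← hmemH, h2, hmemH]
        exact h1.2
  have hcardS : Nat.card (S.map f) = Nat.card S := by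
    symm
    refine Nat.card_congr (Equiv.ofBijective (fun s : S => (⟨f s, ⟨s, s.2, rfl⟩⟩ : S.map f)) ⟨?_, ?_⟩)
    · intro a b hab
      exact Subtype.ext (hinj2 _ a.2 _ b.2 (congrArg Subtype.val hab))
    · rintro ⟨_, ⟨s, hs, rfl⟩⟩
      exact ⟨⟨s, hs⟩, rfl⟩
  refine ⟨R.prime, ?_, ?_, R.pgrp.map f, ?_, ?_, ?_, ?_, ?_⟩
  · refine ⟨?_, Subgroup.map_mono R.data.le, ?_, ?_, ?_⟩
    · rw [hmemH]
      exact R.data.w_not_mem
    · rintro _ ⟨h, hh, rfl⟩ _ ⟨s, hs, rfl⟩
      exact ⟨h * s * h⁻¹, R.data.norm h hh s hs, by simp⟩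
    · intro g hg
      obtain ⟨g, rfl⟩ := hf g
      rw [hmemH] at hg
      obtain ⟨s, hs, h1⟩ := R.data.bruhat g hg
      refine ⟨f s, ⟨s, hs, rfl⟩, ?_⟩
      rw [← map_mul, ← map_inv, ← map_mul, hmemH]
      exact h1
    · rintro _ ⟨s, hs, rfl⟩ h1
      rw [← map_inv, ← map_mul, ← map_mul, hmemH] at h1
      rw [R.data.inter s hs h1, map_one]
  · intro h1
    apply R.ne
    rw [Subgroup.eq_bot_iff_forall]
    intro s hs
    apply hinj s hs
    have h2 : f s ∈ S.map f := ⟨s, hs, rfl⟩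
    rw [h1] at h2
    exact Subgroup.mem_bot.1 h2
  · rw [htor]
    have := R.cyc
    exact isCyclic_of_surjective (f.subgroupMap (tor H w)) (f.subgroupMap_surjective _)
  · rw [htor]
    intro h1
    exact R.cop (h1.trans (Subgroup.card_map_dvd _ f))
  · rw [htor, hcardS]
    exact le_trans (Nat.le_of_dvd Nat.card_pos (Subgroup.card_map_dvd _ f)) R.small
  · obtain ⟨h1, s, hs, hs'⟩ := SetLike.lt_iff_le_and_exists.1 R.lt
    rw [SetLike.lt_iff_le_and_exists]
    refine ⟨Subgroup.map_mono h1, f s, ⟨s, hs, rfl⟩, ?_⟩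
    rw [hmemS s hs Φ h1]
    exact hs'
  · intro A hA hinv
    have hA2 : ∀ a ∈ A, ∃ s ∈ S, s ∈ A.comap f ⊓ S ∧ f s = a := by
      intro a ha
      obtain ⟨s, hs, rfl⟩ := hA ha
      exact ⟨s, hs, ⟨ha, hs⟩, rfl⟩
    rcases R.irr (A.comap f ⊓ S) inf_le_right (by
      rintro h hh hhw r ⟨hr1, hr2⟩
      refine ⟨?_, R.data.norm h hh r hr2⟩
      have h1 := hinv (f h) ⟨h, hh, rfl⟩ (by
        rw [← map_inv, ← map_mul, ← map_mul, hmemH]
        exact hhw) (f r) hr1
      rw [← map_inv, ← map_mul, ← map_mul] at h1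
      exact h1) with h1 | h1
    · left
      intro a ha
      obtain ⟨s, hs, hs2, rfl⟩ := hA2 a ha
      exact ⟨s, h1 hs2, rfl⟩
    · right
      apply le_antisymm hA
      rintro _ ⟨s, hs, rfl⟩
      have h2 : s ∈ A.comap f ⊓ S := by rw [h1]; exact hs
      exact h2.1

/-- transport along an isomorphism -/
theorem Rk.map {T T' : Type*} [Group T] [Finite T] [Group T'] {p : ℕ} {H S Φ : Subgroup T} {w : T}
    (R : Rk p H S Φ w) (e : T ≃* T') :
    Rk p (H.map e.toMonoidHom) (S.map e.toMonoidHom) (Φ.map e.toMonoidHom) (e w) := by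
  refine R.quot e.toMonoidHom e.surjective ?_
  have : e.toMonoidHom.ker = ⊥ := (MonoidHom.ker_eq_bot_iff _).2 e.injective
  rw [this]
  exact bot_le

theorem Rk.card_quot {T T' : Type*} [Group T] [Finite T] [Group T'] {p : ℕ} {H S Φ : Subgroup T} {w : T}
    (R : Rk p H S Φ w) (f : T →* T') (hk : f.ker ≤ H) : Nat.card (S.map f) = Nat.card S := by
  symm
  refine Nat.card_congr (Equiv.ofBijective (fun s : S => (⟨f s, ⟨s, s.2, rfl⟩⟩ : S.map f)) ⟨?_, ?_⟩)
  · intro a b hab
    have h1 : f a = f b := congrArg Subtype.val hab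
    have h2 : (b : T)⁻¹ * a ∈ f.ker := by rw [MonoidHom.mem_ker, map_mul, map_inv, h1, inv_mul_cancel]
    have h3 : (b : T)⁻¹ * a = 1 := by
      apply R.data.inter _ (S.mul_mem (S.inv_mem b.2) a.2)
      apply hk
      rw [MonoidHom.mem_ker] at h2 ⊢
      rw [map_mul, map_mul, h2, mul_one, ← map_mul, inv_mul_cancel, map_one]
    exact Subtype.ext (inv_mul_eq_one.1 h3).symm
  · rintro ⟨_, ⟨s, hs, rfl⟩⟩
    exact ⟨⟨s, hs⟩, rfl⟩

/-- a 2-transitive group with a normal subgroup as above has no non-semiregular TI family -/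
theorem Rk.not_sys {G X : Type*} [Group G] [MulAction G X] [Finite G] [Finite X] [FaithfulSMul G X]
    {N : X → Subgroup G} (Sy : Sys N) {T : Subgroup G} (hT : T.Normal) (hX : IsPretransitive T X) {p : ℕ}
    {H S Φ : Subgroup ↥T} {w : ↥T} (R : Rk p H S Φ w) (hn : Nat.card X = Nat.card S + 1) : False := by
  obtain ⟨x, -⟩ : ∃ x : X, True := by
    obtain ⟨a, -⟩ := Sy.nsr
    exact ⟨a, trivial⟩
  obtain ⟨y, hxy, Q, Ψ, hQx, hQs, hQp, hQt, hQf, hcyc, hlt, hirr⟩ := R.exists_points hX hn x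
  have hmap : ∀ (A : Subgroup ↥T) (g : G), g ∈ A.map T.subtype ↔ ∃ h : g ∈ T, (⟨g, h⟩ : ↥T) ∈ A := by
    intro A g
    constructor
    · rintro ⟨a, ha, rfl⟩
      exact ⟨a.2, ha⟩
    · rintro ⟨h, ha⟩
      exact ⟨⟨g, h⟩, ha, rfl⟩
  refine NoTI.not_rank_one Sy hT hxy R.prime (Q := Q.map T.subtype) (Φ := Ψ.map T.subtype) ?_ ?_ ?_ ?_ ?_ ?_ ?_ ?_
  · rintro q hq
    obtain ⟨h1, h2⟩ := (hmap Q q).1 hq
    exact hQx _ h2
  · rintro g hg q hq
    obtain ⟨h1, h2⟩ := (hmap Q q).1 hq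
    have h3 : g * q * g⁻¹ ∈ T := hT.conj_mem q h1 g
    rw [hmap]
    refine ⟨h3, hQs _ ?_ ?_⟩
    · change (g * q * g⁻¹) • x = x
      have h4 : g⁻¹ • x = x := by rw [inv_smul_eq_iff, hg]
      have h5 : q • x = x := hQx _ h2
      rw [mul_smul, mul_smul, h4, h5, hg]
    · obtain ⟨k, hk⟩ := hQp ⟨_, h2⟩
      refine ⟨k, Subtype.ext ?_⟩
      have h4 : q ^ p ^ k = 1 := congrArg (fun t : Q => ((t : ↥T) : G)) hk
      change (g * q * g⁻¹) ^ p ^ k = 1
      rw [conj_pow, h4]
      group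
  · exact hQp.map _
  · intro z hz
    obtain ⟨q, hq, hqy⟩ := hQt z hz
    exact ⟨q.1, ⟨q, hq, rfl⟩, hqy⟩
  · intro q hq hqy
    obtain ⟨h1, h2⟩ := (hmap Q q).1 hq
    exact congrArg Subtype.val (hQf _ h2 hqy)
  · let f : ↥(T ⊓ stabilizer G x ⊓ stabilizer G y) →* ↥(stabilizer ↥T x ⊓ stabilizer ↥T y) :=
      { toFun := fun t => ⟨⟨t.1, t.2.1.1⟩, ⟨t.2.1.2, t.2.2⟩⟩
        map_one' := rfl
        map_mul' := fun _ _ => rfl }
    apply isCyclic_of_injective f
    intro a b hab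
    have h3 := congrArg (fun t : ↥(stabilizer ↥T x ⊓ stabilizer ↥T y) => ((t : ↥T) : G)) hab
    exact Subtype.ext h3
  · exact (Subgroup.map_lt_map_iff_of_injective T.subtype_injective).2 hlt
  · intro A hA hinv
    have hAT : A ≤ T := fun a ha => ((hmap Q a).1 (hA ha)).1
    rcases hirr (A.comap T.subtype) (by
      intro a ha
      obtain ⟨h1, h2⟩ := (hmap Q a.1).1 (hA ha)
      exact h2) (by
      intro h hx hy r hr
      exact hinv h.1 h.2 hx hy r.1 hr) with h1 | h1
    · left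
      intro a ha
      exact ⟨⟨a, hAT ha⟩, h1 (show (⟨a, hAT ha⟩ : ↥T) ∈ A.comap T.subtype from ha), rfl⟩
    · right
      rw [← h1, Subgroup.map_comap_eq, Subgroup.range_subtype]
      exact (inf_eq_right.2 hAT).symm

end Cfsg.Agent.H88
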