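import Mathlib

/-!
# Additive subgroups of a finite field invariant under a large multiplicative subgroup (helper88)
-/

set_option autoImplicit false

namespace Cfsg.Agent.H88.RkField

variable {K : Type*} [Field K] [Finite K]

/-- a subring with more than `√|K|` elements is everything -/
theorem subring_top (A : Subring K) (h : Nat.card K < Nat.card A ^ 2) : A = ⊤ := by
  classical
  have : Fintype K := Fintype.ofFinite K
  have hf : Finite A := inferInstance
  have : IsDomain A := inferInstance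
  letI : Field A := Fintype.fieldOfDomain A
  have h1 : Nat.card K = Nat.card A ^ Module.finrank A K := Module.natCard_eq_pow_finrank
  have h2 : 1 < Nat.card A := Finite.one_lt_card
  have h3 : Module.finrank A K < 2 := by
    rw [h1] at h
    exact (Nat.pow_lt_pow_iff_right h2).1 h
  have h4 : Nat.card K ≤ Nat.card A := by
    rw [h1]
    calc Nat.card A ^ Module.finrank A K ≤ Nat.card A ^ 1 := Nat.pow_le_pow_right (by omega) (by omega)
      _ = _ := pow_one _
  rw [eq_top_iff]
  intro x _
  have h5 : (A : Set K) = Set.univ := by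
    apply Set.eq_of_subset_of_ncard_le (Set.subset_univ _)
    · rw [Set.ncard_univ]
      exact h4
  have : x ∈ (A : Set K) := by rw [h5]; trivial
  exact this

/-- the multipliers of an additive subgroup -/
def mult (W : AddSubgroup K) : Subring K where
  carrier := {x | ∀ w ∈ W, x * w ∈ W}
  mul_mem' := fun {a b} ha hb w hw => by rw [mul_assoc]; exact ha _ (hb _ hw)
  one_mem' := fun w hw => by rwa [one_mul]
  add_mem' := fun {a b} ha hb w hw => by rw [add_mul]; exact W.add_mem (ha _ hw) (hb _ hw)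
  zero_mem' := fun w _ => by rw [zero_mul]; exact W.zero_mem
  neg_mem' := fun {a} ha w hw => by rw [neg_mul]; exact W.neg_mem (ha _ hw)

omit [Finite K] in
theorem mem_mult {W : AddSubgroup K} {x : K} : x ∈ mult W ↔ ∀ w ∈ W, x * w ∈ W := Iff.rfl

theorem all {W : AddSubgroup K} {I : Set K} (hI : ∀ i ∈ I, ∀ w ∈ W, i * w ∈ W) (h0 : (0 : K) ∉ I)
    (hc : Nat.card K < (I.ncard + 1) ^ 2) {w : K} (hw : w ∈ W) (hw0 : w ≠ 0) (x : K) : x ∈ W := by
  have h1 : insert 0 I ⊆ ((mult W : Subring K) : Set K) := by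
    intro i hi
    rcases hi with rfl | hi
    · exact (mult W).zero_mem
    · exact hI i hi
  have h2 : I.ncard + 1 ≤ Nat.card (mult W) := by
    have h3 := Set.ncard_le_ncard h1 (Set.toFinite _)
    rw [Set.ncard_insert_of_notMem h0 (Set.toFinite _)] at h3
    exact h3
  have h3 : mult W = ⊤ := subring_top _ (lt_of_lt_of_le hc (Nat.pow_le_pow_left h2 2))
  have h4 : x * w⁻¹ ∈ mult W := by rw [h3]; trivial
  have h5 := h4 w hw
  rwa [inv_mul_cancel_right₀ hw0] at h5

/-- the size of the image of a multiplicative map -/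
theorem ncard_image (φ : Kˣ →* Kˣ) {c : ℕ} (hk : Nat.card φ.ker ≤ c) :
    Nat.card K ≤ c * ({x : K | ∃ a : Kˣ, x = φ a} : Set K).ncard + 1 := by
  have h1 : Nat.card Kˣ = Nat.card K - 1 := Nat.card_units K
  have h2 : Nat.card φ.ker * Nat.card φ.range = Nat.card Kˣ := by
    rw [← Subgroup.index_ker, Subgroup.card_mul_index]
  have h3 : ({x : K | ∃ a : Kˣ, x = φ a} : Set K).ncard = Nat.card φ.range := by
    have h4 : ({x : K | ∃ a : Kˣ, x = φ a} : Set K) = (fun u : Kˣ => (u : K)) '' (φ.range : Set Kˣ) := by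
      ext x
      constructor
      · rintro ⟨a, rfl⟩
        exact ⟨φ a, ⟨a, rfl⟩, rfl⟩
      · rintro ⟨_, ⟨a, rfl⟩, rfl⟩
        exact ⟨a, rfl⟩
    rw [h4, Set.ncard_image_of_injective _ Units.val_injective]
    rfl
  rw [h3]
  have h5 : 0 < Nat.card K := Nat.card_pos
  have h6 : Nat.card K - 1 ≤ c * Nat.card φ.range := by
    rw [← h1, ← h2]
    exact Nat.mul_le_mul_right _ hk
  omega

/-- the general criterion: an additive subgroup invariant under the image of a multiplicative map with a kernel of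
order at most two is trivial or everything -/
theorem all_of_ker {W : AddSubgroup K} (φ : Kˣ →* Kˣ) (hφ : ∀ (a : Kˣ), ∀ w ∈ W, (φ a : K) * w ∈ W)
    (hk : Nat.card φ.ker ≤ 2) {w : K} (hw : w ∈ W) (hw0 : w ≠ 0) (x : K) : x ∈ W := by
  refine all (I := {x : K | ∃ a : Kˣ, x = φ a}) ?_ ?_ ?_ hw hw0 x
  · rintro _ ⟨a, rfl⟩ w hw
    exact hφ a w hw
  · rintro ⟨a, h⟩
    exact (φ a).ne_zero h.symm
  · have h1 := ncard_image φ hk
    have h2 : 1 < Nat.card K := Finite.one_lt_card
    nlinarith

theorem ker_le_one {φ : Kˣ →* Kˣ} (h : ∀ a, φ a = 1 → a = 1) : Nat.card φ.ker ≤ 2 := by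
  have : φ.ker = ⊥ := by
    rw [Subgroup.eq_bot_iff_forall]
    exact h
  rw [this, Subgroup.card_bot]
  omega

theorem ker_le_two {φ : Kˣ →* Kˣ} (h : ∀ a, φ a = 1 → a ^ 2 = 1) : Nat.card φ.ker ≤ 2 := by
  have h1 : ((φ.ker : Subgroup Kˣ) : Set Kˣ) ⊆ {1, -1} := by
    intro a ha
    have h2 := h a ha
    have h3 : (a : K) * a = 1 := by rw [← pow_two, ← Units.val_pow_eq_pow_val, h2, Units.val_one]
    rcases mul_self_eq_one_iff.mp h3 with h4 | h4
    · exact Or.inl (Units.ext h4)
    · exact Or.inr (Units.ext (by rw [h4, Units.val_neg, Units.val_one]))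
  have h2 := Set.ncard_le_ncard h1 (Set.toFinite _)
  exact h2.trans ((Set.ncard_insert_le _ _).trans (by rw [Set.ncard_singleton]))

end Cfsg.Agent.H88.RkField
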