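import Mathlib
import Cfsg.Agent.ChevalleyStructure.Ree.Data
import Cfsg.Agent.LieRecognition.ReeThree
import Cfsg.Agent.LieRecognition.ReeSplit
import Cfsg.Agent.SmallSimple.SylowEight
import Cfsg.Agent.H88.RankOne

/-!
# The small Ree groups on `q ^ 3 + 1` points (helper88)

Let `T` be a small Ree group over the field `K` with `q = 3 ^ (2 m + 1)` elements, acting transitively on `q ^ 3 + 1`
points. Then

* `Ree.two` : the action is 2-transitive;
* `Ree.cyclic` : the stabiliser of two points is cyclic of order `q - 1`;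
* `Ree.unique` : exactly one non-identity element of the stabiliser of two points fixes more than two points;
* `Ree.conj` : all involutions are conjugate (`T` simple);
* `Ree.centralizer` : some involution has centraliser `PSL₂(K) × 2`;
* `Ree.borel` : the stabiliser of a point `x` has a normal 3-subgroup `Q`, regular on the other points; every proper
  subgroup of `Q` normalised by the two-point stabiliser is contained in a fixed proper subgroup.
-/

set_option autoImplicit false

namespace Cfsg.Agent.H88.ReeTwo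

open scoped Pointwise
open MulAction Cfsg.Agent.LieRecognition.ReeAbs Cfsg.Agent.LieRecognition.ReeThree
  Cfsg.Agent.LieRecognition.ReeSylowThree Cfsg.Agent.LieRecognition.ReeSplit

section abs

variable {K : Type*} [Field K] {G : Type*} [Group G] {m : ℕ} {U : K → K → K → G} {h : Kˣ → G} {n : G}

/-- the Bruhat normal form data are transported by isomorphisms -/
theorem data_map {G' : Type*} [Group G'] (f : G ≃* G') (D : Data m U h n) :
    Data m (fun t u v => f (U t u v)) (fun a => f (h a)) (f n) where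
  U_mul t u v t' u' v' := by rw [← map_mul, D.U_mul]
  h_mul a b := by rw [← map_mul, D.h_mul]
  h_U a t u v := by rw [← map_mul, D.h_U, map_mul]
  n_h a := by rw [← map_mul, D.n_h, map_mul]
  n_n := by rw [← map_mul, D.n_n, map_one]
  n_U := by rw [← map_mul, ← map_mul, D.n_U, map_mul, map_mul]
  bruhat g := by
    rcases D.bruhat (f.symm g) with ⟨t, u, v, a, hg⟩ | ⟨t, u, v, a, t', u', v', hg⟩
    · exact Or.inl ⟨t, u, v, a, by rw [← map_mul, ← hg, MulEquiv.apply_symm_apply]⟩
    · exact Or.inr ⟨t, u, v, a, t', u', v', by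
        rw [← map_mul, ← map_mul, ← map_mul, ← hg, MulEquiv.apply_symm_apply]⟩
  inj₁ t u v a t' u' v' a' hh := by
    rw [← map_mul, ← map_mul] at hh
    exact D.inj₁ _ _ _ _ _ _ _ _ (f.injective hh)
  ne t u v a t' u' v' a' t'' u'' v'' hh := by
    rw [← map_mul, ← map_mul, ← map_mul, ← map_mul] at hh
    exact D.ne _ _ _ _ _ _ _ _ _ _ _ (f.injective hh)
  inj₂ t u v a t' u' v' t₁ u₁ v₁ a₁ t₁' u₁' v₁' hh := by
    rw [← map_mul, ← map_mul, ← map_mul, ← map_mul, ← map_mul, ← map_mul] at hh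
    exact D.inj₂ _ _ _ _ _ _ _ _ _ _ _ _ _ _ (f.injective hh)

variable (D : Data m U h n)

include D

theorem two_coset : IsMultiplyPretransitive G (G ⧸ bSub D) 2 := by
  rw [is_two_pretransitive_iff]
  intro a b c d hab hcd
  obtain ⟨g, h1, h2⟩ := two_transitive D (bSub D) (fun _ => Iff.rfl) a b hab
  obtain ⟨k, h3, h4⟩ := two_transitive D (bSub D) (fun _ => Iff.rfl) c d hcd
  refine ⟨k⁻¹ * g, ?_, ?_⟩
  · rw [mul_smul, h1, ← h3, inv_smul_smul]
  · rw [mul_smul, h2, ← h4, inv_smul_smul]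

variable [Fintype K]

theorem card_coset : Nat.card (G ⧸ bSub D) = Fintype.card K ^ 3 + 1 := by
  have h1 := (bSub D).card_mul_index
  rw [card_bSub D, card_eq D] at h1
  have h2 : 1 < Fintype.card K := Fintype.one_lt_card
  have h3 : 0 < Fintype.card K ^ 3 * (Fintype.card K - 1) := by
    apply Nat.mul_pos (pow_pos (by omega) 3) (by omega)
  exact Nat.eq_of_mul_eq_mul_left h3 h1

theorem card_lt (hK : Fintype.card K = 3 ^ (2 * m + 1)) :
    Nat.card G < (Fintype.card K ^ 3 + 1) ^ 2 * 3 ^ (3 * (2 * m + 1)) := by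
  rw [card_eq D]
  have h1 : 3 ^ (3 * (2 * m + 1)) = Fintype.card K ^ 3 := by rw [hK, ← pow_mul, mul_comm]
  rw [h1]
  have h2 : 1 < Fintype.card K := Fintype.one_lt_card
  have h3 : 0 < Fintype.card K ^ 3 := pow_pos (by omega) 3
  have h4 : Fintype.card K - 1 < Fintype.card K ^ 3 + 1 := by
    have : Fintype.card K ≤ Fintype.card K ^ 3 := Nat.le_self_pow (by norm_num) _
    omega
  calc Fintype.card K ^ 3 * (Fintype.card K - 1) * (Fintype.card K ^ 3 + 1)
      < Fintype.card K ^ 3 * (Fintype.card K ^ 3 + 1) * (Fintype.card K ^ 3 + 1) := by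
        apply Nat.mul_lt_mul_of_pos_right _ (by omega)
        exact Nat.mul_lt_mul_of_pos_left h4 h3
    _ = _ := by ring

variable {Ω : Type*} [Finite Ω] [MulAction G Ω] (hK : Fintype.card K = 3 ^ (2 * m + 1))
  (hT : IsPretransitive G Ω) (hn : Nat.card Ω = Fintype.card K ^ 3 + 1)

include hK hT hn

theorem exists_equiv : ∃ e : Ω ≃ G ⧸ bSub D, ∀ (g : G) (w : Ω), e (g • w) = g • e w := by
  have : Finite G := finite D
  have hc := card_coset D
  refine RankOne.exists_equiv hT (two_coset D) (hn.trans hc.symm) Nat.prime_three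
    (a := 3 * (2 * m + 1)) (by omega) ?_ ?_
  · rw [hc, hK, ← pow_mul, mul_comm]
  · rw [hc]
    exact card_lt D hK

theorem two : IsMultiplyPretransitive G Ω 2 := by
  obtain ⟨e, he⟩ := exists_equiv D hK hT hn
  exact RankOne.two_of_equiv (two_coset D) e he

/-- the standard position of two points -/
theorem exists_std {a b : Ω} (hab : a ≠ b) : ∃ (e : Ω ≃ G ⧸ bSub D),
    (∀ (g : G) (w : Ω), e (g • w) = g • e w) ∧ ∃ k : G, k • e a = ((1 : G) : G ⧸ bSub D) ∧
      k • e b = ((n : G) : G ⧸ bSub D) := by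
  obtain ⟨e, he⟩ := exists_equiv D hK hT hn
  obtain ⟨k, h1, h2⟩ := two_transitive D (bSub D) (fun _ => Iff.rfl) (e a) (e b) (fun h => hab (e.injective h))
  exact ⟨e, he, k, h1, h2⟩

omit [Fintype K] [Finite Ω] hK hT hn in
theorem mem_stab_iff {a b : Ω} {e : Ω ≃ G ⧸ bSub D} (he : ∀ (g : G) (w : Ω), e (g • w) = g • e w)
    {k : G} (h1 : k • e a = ((1 : G) : G ⧸ bSub D)) (h2 : k • e b = ((n : G) : G ⧸ bSub D)) (t : G) :
    t ∈ stabilizer G a ⊓ stabilizer G b ↔ ∃ c, k * t * k⁻¹ = h c := by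
  rw [← mem_stab_two D (bSub D) (fun _ => Iff.rfl) (k * t * k⁻¹), Subgroup.mem_inf, Subgroup.mem_inf,
    mem_stabilizer_iff, mem_stabilizer_iff, mem_stabilizer_iff, mem_stabilizer_iff, ← h1, ← h2, mul_smul, mul_smul,
    mul_smul, mul_smul, inv_smul_smul, inv_smul_smul, smul_left_cancel_iff, smul_left_cancel_iff, ← he, ← he,
    e.injective.eq_iff, e.injective.eq_iff]

theorem cyclic {a b : Ω} (hab : a ≠ b) : IsCyclic ↥(stabilizer G a ⊓ stabilizer G b) := by
  obtain ⟨e, he, k, h1, h2⟩ := exists_std D hK hT hn hab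
  have hcyc := isCyclic_hSub D
  let f : ↥(stabilizer G a ⊓ stabilizer G b) →* hSub D :=
    { toFun := fun t => ⟨k * t.1 * k⁻¹, by
        rw [mem_hSub]
        exact (mem_stab_iff D he h1 h2 t.1).1 t.2⟩
      map_one' := by
        apply Subtype.ext
        simp
      map_mul' := fun x y => by
        apply Subtype.ext
        simp [mul_assoc] }
  apply isCyclic_of_injective f
  intro x y hxy
  have h3 := congrArg Subtype.val hxy
  simp only [f, MonoidHom.coe_mk, OneHom.coe_mk, mul_left_inj, mul_right_inj] at h3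
  exact Subtype.ext h3

theorem card_stab {a b : Ω} (hab : a ≠ b) : Nat.card ↥(stabilizer G a ⊓ stabilizer G b) = Fintype.card K - 1 := by
  obtain ⟨e, he, k, h1, h2⟩ := exists_std D hK hT hn hab
  rw [← card_hSub D]
  refine Nat.card_congr ⟨fun t => ⟨k * t.1 * k⁻¹, ?_⟩, fun s => ⟨k⁻¹ * s.1 * k, ?_⟩, ?_, ?_⟩
  · rw [mem_hSub]
    exact (mem_stab_iff D he h1 h2 t.1).1 t.2
  · rw [mem_stab_iff D he h1 h2]
    obtain ⟨c, hc⟩ := (mem_hSub D).1 s.2
    exact ⟨c, by rw [← hc]; group⟩
  · intro t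
    apply Subtype.ext
    simp [mul_assoc]
  · intro t
    apply Subtype.ext
    simp [mul_assoc]

theorem unique {a b : Ω} (hab : a ≠ b) :
    ∃! t : G, t ∈ stabilizer G a ⊓ stabilizer G b ∧ t ≠ 1 ∧ 2 < Nat.card {x : Ω // t • x = x} := by
  obtain ⟨e, he, k, h1, h2⟩ := exists_std D hK hT hn hab
  have hB : ∀ g, g ∈ bSub D ↔ ∃ t u v a, g = U t u v * h a := fun _ => Iff.rfl
  -- fixed points of a conjugate
  have hfix : ∀ (t : G) (x : Ω), t • x = x ↔ (k * t * k⁻¹) • (k • e x) = k • e x := by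
    intro t x
    rw [mul_smul, mul_smul, inv_smul_smul, smul_left_cancel_iff, ← he, e.injective.eq_iff]
  refine ⟨k⁻¹ * h (-1) * k, ⟨?_, ?_, ?_⟩, ?_⟩
  · rw [mem_stab_iff D he h1 h2]
    exact ⟨-1, by group⟩
  · intro h3
    apply D.inv_ne_one hK
    have : h (-1) = k * (k⁻¹ * h (-1) * k) * k⁻¹ := by group
    rw [this, h3]
    group
  · -- three fixed points
    let c : Ω := e.symm (k⁻¹ • ((U 0 1 0 * n : G) : G ⧸ bSub D))
    have hc : k • e c = ((U 0 1 0 * n : G) : G ⧸ bSub D) := by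
      simp only [c, Equiv.apply_symm_apply, smul_inv_smul]
    have hkt : k * (k⁻¹ * h (-1) * k) * k⁻¹ = h (-1) := by group
    have hstab : h (-1) ∈ stabilizer G ((1 : G) : G ⧸ bSub D) ⊓ stabilizer G ((n : G) : G ⧸ bSub D) :=
      (mem_stab_two D (bSub D) hB _).2 ⟨_, rfl⟩
    have fa : (k⁻¹ * h (-1) * k) • a = a := by
      rw [hfix, hkt, h1]
      exact hstab.1
    have fb : (k⁻¹ * h (-1) * k) • b = b := by
      rw [hfix, hkt, h2]
      exact hstab.2
    have fc : (k⁻¹ * h (-1) * k) • c = c := by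
      rw [hfix, hkt, hc]
      have : h (-1) ∈ stabilizer G ((U 0 1 0 * n : G) : G ⧸ bSub D) := by
        refine (h_mem_stab_iff D (bSub D) hB _ _ _ _).2 ⟨by simp, ?_, by simp⟩
        have h5 : (((-1 : Kˣ) : K)) ^ (3 ^ (m + 1) + 3) = 1 := by
          rw [pow_add, Units.val_neg, Units.val_one, (odd_three_pow _).neg_one_pow]
          ring
        rw [h5, mul_one]
      exact this
    have hac : a ≠ c := by
      intro h5
      have h6 : k • e a = k • e c := by rw [h5]
      rw [h1, hc] at h6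
      exact one_ne D (bSub D) hB 0 1 0 h6
    have hbc : b ≠ c := by
      intro h5
      have h6 : k • e b = k • e c := by rw [h5]
      rw [h2, hc] at h6
      have h7 : ((U 0 0 0 * n : G) : G ⧸ bSub D) = ((U 0 1 0 * n : G) : G ⧸ bSub D) := by
        rw [D.U_zero, one_mul]
        exact h6
      exact zero_ne_one (Un_inj D (bSub D) hB _ _ _ _ _ _ h7).2.1
    have h3 : ({a, b, c} : Set Ω) ⊆ {x : Ω | (k⁻¹ * h (-1) * k) • x = x} := by
      rintro x (rfl | rfl | rfl)
      · exact fa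
      · exact fb
      · exact fc
    have h4 := Set.ncard_le_ncard h3 (Set.toFinite _)
    rw [Set.ncard_eq_three.2 ⟨a, b, c, hab, hac, hbc, rfl⟩] at h4
    exact h4
  · rintro t ⟨ht, ht1, ht2⟩
    obtain ⟨c, hc⟩ := (mem_stab_iff D he h1 h2 t).1 ht
    -- a third fixed point
    have h3 : ¬ ({x : Ω | t • x = x} ⊆ ({a, b} : Set Ω)) := by
      intro hsub
      have h4 := Set.ncard_le_ncard hsub (Set.toFinite _)
      have h5 := Set.ncard_insert_le a ({b} : Set Ω)
      rw [Set.ncard_singleton] at h5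
      have h6 : Nat.card {x : Ω // t • x = x} = ({x : Ω | t • x = x} : Set Ω).ncard := rfl
      omega
    rw [Set.not_subset] at h3
    obtain ⟨x, hx, hxab⟩ := h3
    have hx' : t • x = x := hx
    rw [hfix, hc] at hx'
    rcases coset_cases D (bSub D) hB (k • e x) with h4 | ⟨y₁, y₂, y₃, h4⟩
    · exfalso
      apply hxab
      left
      rw [← h1, smul_left_cancel_iff] at h4
      exact e.injective h4
    · rw [h4] at hx'
      obtain ⟨e1, e2, e3⟩ := (h_mem_stab_iff D (bSub D) hB c y₁ y₂ y₃).1 hx'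
      have hne : ¬ (y₁ = 0 ∧ y₂ = 0 ∧ y₃ = 0) := by
        rintro ⟨rfl, rfl, rfl⟩
        apply hxab
        right
        rw [D.U_zero, one_mul, ← h2, smul_left_cancel_iff] at h4
        exact e.injective h4
      rcases unit_of_fix hK c y₁ y₂ y₃ hne e1 e2 e3 with rfl | rfl
      · exfalso
        apply ht1
        rw [D.h_one] at hc
        have : t = k⁻¹ * (k * t * k⁻¹) * k := by group
        rw [this, hc]
        group
      · rw [← hc]
        group

end abs

section inv

variable {K : Type*} [Field K] [Fintype K] {G : Type*} [Group G] {m : ℕ} {U : K → K → K → G} {h : Kˣ → G} {n : G}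
  (D : Data m U h n) (hK : Fintype.card K = 3 ^ (2 * m + 1))

include D hK

theorem card_pow : Nat.card G = (3 ^ (2 * m + 1)) ^ 3 * (3 ^ (2 * m + 1) - 1) * ((3 ^ (2 * m + 1)) ^ 3 + 1) := by
  rw [card_eq D, hK]

theorem conj [Finite G] [IsSimpleGroup G] (hG : ¬ IsMulCommutative G) (s t : G) (hs : orderOf s = 2)
    (ht : orderOf t = 2) : IsConj s t := by
  obtain ⟨S⟩ : Nonempty (Sylow 2 G) := inferInstance
  have hS := D.sylow_two hK (card_pow D hK) S
  have h4 : ∀ x ∈ (S : Subgroup G), orderOf x ≠ 4 := by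
    intro x hx h5
    have h6 : x ^ 2 = 1 := by rw [pow_two]; exact hS.2 x hx
    have h7 := orderOf_dvd_of_pow_eq_one h6
    rw [h5] at h7
    omega
  have h5 := (Cfsg.Agent.SmallSimple.SylowEight.elementary_case hG S hS.1 h4).2
  have key : ∀ x : G, orderOf x = 2 → ∃ y ∈ (S : Subgroup G), y ≠ 1 ∧ IsConj x y := by
    intro x hx
    have hp : IsPGroup 2 (Subgroup.zpowers x) := by
      apply IsPGroup.of_card (n := 1)
      rw [Nat.card_zpowers, hx, pow_one]
    obtain ⟨g, hg⟩ : ∃ g : G, g * x * g⁻¹ ∈ (S : Subgroup G) := by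
      obtain ⟨Q, hQ⟩ := hp.exists_le_sylow
      obtain ⟨g, hg⟩ := MulAction.exists_smul_eq G Q S
      refine ⟨g, ?_⟩
      rw [← hg, Sylow.coe_subgroup_smul]
      exact Subgroup.smul_mem_pointwise_smul _ _ _ (hQ (Subgroup.mem_zpowers x))
    refine ⟨g * x * g⁻¹, hg, ?_, isConj_iff.2 ⟨g, rfl⟩⟩
    intro h6
    have h7 : x = 1 := conj_eq_one_iff.1 h6
    rw [h7, orderOf_one] at hx
    omega
  obtain ⟨y, hy, hy1, hxy⟩ := key s hs
  obtain ⟨z, hz, hz1, hxz⟩ := key t ht
  exact hxy.trans ((h5 y hy z hz hy1 hz1).trans hxz.symm)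

theorem centralizer : ∃ t : G, orderOf t = 2 ∧
    Nonempty (↥(Subgroup.centralizer ({t} : Set G)) ≃*
      Matrix.ProjectiveSpecialLinearGroup (Fin 2) K × Multiplicative (ZMod 2)) := by
  refine ⟨h (-1), ?_, ?_⟩
  · apply orderOf_eq_prime
    · rw [pow_two]; exact D.inv_sq
    · exact D.inv_ne_one hK
  · obtain ⟨e⟩ := D.centralizer_iso hK
    exact ⟨e.trans MulEquiv.prodComm⟩

end inv

/-! ### The statement for a group isomorphic to `²G₂(K)` -/

/-- Everything about a Ree group acting transitively on `q ^ 3 + 1` points. -/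
theorem main {T Ω : Type*} [Group T] [Finite T] [MulAction T Ω] [Finite Ω] (hT : IsPretransitive T Ω)
    {K : Type*} [Field K] [Fintype K] {m : ℕ} (hK : Fintype.card K = 3 ^ (2 * m + 1))
    (e : T ≃* ↥(Cfsg.Lie.twistedG2 K (3 ^ m))) (hn : Nat.card Ω = Fintype.card K ^ 3 + 1) :
    IsMultiplyPretransitive T Ω 2 ∧
    (∀ a b : Ω, a ≠ b → IsCyclic ↥(stabilizer T a ⊓ stabilizer T b) ∧
      Nat.card ↥(stabilizer T a ⊓ stabilizer T b) = Fintype.card K - 1 ∧
      ∃! t : T, t ∈ stabilizer T a ⊓ stabilizer T b ∧ t ≠ 1 ∧ 2 < Nat.card {x : Ω // t • x = x}) ∧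
    (∃ t : T, orderOf t = 2 ∧ Nonempty (↥(Subgroup.centralizer ({t} : Set T)) ≃*
      Matrix.ProjectiveSpecialLinearGroup (Fin 2) K × Multiplicative (ZMod 2))) ∧
    (∀ S : Sylow 2 T, Nat.card S = 8 ∧ ∀ x ∈ S, x * x = 1) ∧
    (IsSimpleGroup T → ¬ IsMulCommutative T → ∀ s t : T, orderOf s = 2 → orderOf t = 2 → IsConj s t) := by
  obtain ⟨U, h, n, D₀⟩ := Cfsg.Agent.ChevalleyStructure.Ree.Data.exists_data hK
  have D := data_map e.symm D₀
  exact ⟨two D hK hT hn, fun a b hab => ⟨cyclic D hK hT hn hab, card_stab D hK hT hn hab, unique D hK hT hn hab⟩,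
    centralizer D hK, D.sylow_two hK (card_pow D hK), fun hs hna s t => by
      have := hs
      exact conj D hK hna s t⟩

end Cfsg.Agent.H88.ReeTwo
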