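import Mathlib
import Cfsg.Agent.H88.RkData
import Cfsg.Agent.H88.RkField
import Cfsg.Agent.H88.ReeTwo

/-!
# The Ree groups: rank one data with a cyclic torus, irreducible on the Frattini quotient (helper88)
-/

set_option autoImplicit false

namespace Cfsg.Agent.H88.RkRee

open MulAction Cfsg.Agent.LieRecognition.ReeAbs Cfsg.Agent.LieRecognition.ReeThree
  Cfsg.Agent.LieRecognition.ReeSylowThree Cfsg.Agent.LieRecognition.ReeSplit
  Cfsg.Agent.LieRecognition

variable {K : Type*} [Field K] {G : Type*} [Group G] {m : ℕ} {U : K → K → K → G} {h : Kˣ → G} {n : G}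
  (D : Data m U h n)

include D

theorem n_inv : n⁻¹ = n := inv_eq_of_mul_eq_one_left D.n_n

theorem h_inv (a : Kˣ) : (h a)⁻¹ = h a⁻¹ := (map_inv (MonoidHom.mk' h D.h_mul) a).symm

theorem rank_one : RankOneAbstract.Data (bSub D) (uSub D) n where
  w_not_mem := by
    rintro ⟨t, u, v, a, hn⟩
    apply D.ne t u v a 0 0 0 1 0 0 0
    rw [← hn, D.U_zero, D.h_one, one_mul, one_mul, mul_one]
  le := uSub_le_bSub D
  norm := fun g hg s hs => conj_mem_uSub D hg hs
  bruhat := by
    intro g hg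
    rcases D.bruhat g with h1 | ⟨t, u, v, a, t', u', v', rfl⟩
    · exact absurd h1 hg
    · refine ⟨U t u v, ⟨t, u, v, rfl⟩, ?_⟩
      have h1 : (U t u v * n)⁻¹ * (U t u v * h a * n * U t' u' v') = h a⁻¹ * U t' u' v' := by
        have h2 : n * h a * n = h a⁻¹ := by rw [D.n_h, mul_assoc, D.n_n, mul_one]
        calc (U t u v * n)⁻¹ * (U t u v * h a * n * U t' u' v') = (n⁻¹ * h a * n) * U t' u' v' := by group
          _ = _ := by rw [n_inv D, h2]
      rw [h1]
      exact (bSub D).mul_mem (h_mem_bSub D _) (uSub_le_bSub D ⟨_, _, _, rfl⟩)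
  inter := by
    rintro _ ⟨t, u, v, rfl⟩ ⟨t', u', v', a, h1⟩
    -- `U t u v * n = n * U t' u' v' * h a`
    obtain ⟨t₁, u₁, v₁, h2⟩ := h_conj_mem D a⁻¹ (⟨t', u', v', rfl⟩ : U t' u' v' ∈ uSub D)
    have h3 : U t u v * n = h a⁻¹ * n * U t₁ u₁ v₁ := by
      have h4 : U t u v * n = n * (n⁻¹ * U t u v * n) := by group
      rw [h4, h1, ← h2, h_inv D, inv_inv]
      have h5 : h a⁻¹ * n = n * h a := by rw [D.n_h]
      have h6 : h a * (h a⁻¹ * U t' u' v' * h a) = U t' u' v' * h a := by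
        rw [← mul_assoc, ← mul_assoc, ← D.h_mul, mul_inv_cancel, D.h_one, one_mul]
      rw [h5, mul_assoc, h6]
    have h4 : U t u v * h 1 * n * U 0 0 0 = U 0 0 0 * h a⁻¹ * n * U t₁ u₁ v₁ := by
      rw [D.h_one, mul_one, D.U_zero, mul_one, one_mul, h3]
    obtain ⟨rfl, rfl, rfl, -⟩ := D.inj₂ _ _ _ _ _ _ _ _ _ _ _ _ _ _ h4
    exact D.U_zero

theorem mem_tor_iff (g : G) : g ∈ tor (bSub D) n ↔ ∃ a, g = h a := by
  rw [mem_tor]
  constructor
  · rintro ⟨⟨t, u, v, a, rfl⟩, h2⟩
    have h3 : n⁻¹ * U t u v * n ∈ bSub D := by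
      have h4 : n⁻¹ * U t u v * n = (n⁻¹ * (U t u v * h a) * n) * (n⁻¹ * (h a)⁻¹ * n) := by group
      rw [h4]
      refine (bSub D).mul_mem h2 ?_
      have h5 : n⁻¹ * (h a)⁻¹ * n = h a := by
        rw [n_inv D, h_inv D, D.n_h, inv_inv, mul_assoc, D.n_n, mul_one]
      rw [h5]
      exact h_mem_bSub D a
    have h4 := (rank_one D).inter _ ⟨t, u, v, rfl⟩ h3
    exact ⟨a, by rw [h4, one_mul]⟩
  · rintro ⟨a, rfl⟩
    refine ⟨h_mem_bSub D a, ?_⟩
    have h5 : n⁻¹ * h a * n = h a⁻¹ := by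
      rw [n_inv D, D.n_h, mul_assoc, D.n_n, mul_one]
    rw [h5]
    exact h_mem_bSub D _

theorem tor_eq : tor (bSub D) n = hSub D := by
  ext g
  rw [mem_tor_iff D, mem_hSub]

/-- the Frattini subgroup of the unipotent radical -/
def phi (D : Data m U h n) : Subgroup G where
  carrier := {g | ∃ u v, g = U 0 u v}
  mul_mem' := by
    rintro _ _ ⟨u, v, rfl⟩ ⟨u', v', rfl⟩
    refine ⟨u + u', v + v', ?_⟩
    rw [D.U_mul]
    simp
  one_mem' := ⟨0, 0, D.U_zero.symm⟩
  inv_mem' := by
    rintro _ ⟨u, v, rfl⟩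
    refine ⟨-u, -v, ?_⟩
    rw [inv_eq_iff_mul_eq_one, D.U_mul, ← D.U_zero]
    simp

theorem mem_phi {g : G} : g ∈ phi D ↔ ∃ u v, g = U 0 u v := Iff.rfl

variable [Fintype K] (hK : Fintype.card K = 3 ^ (2 * m + 1)) (hm : 1 ≤ m)

include hK hm

omit D hm in
theorem pow_inj {a : Kˣ} (h1 : a ^ 3 ^ (m + 1) = 1) : a = 1 := by
  apply eq_one_of_mul_eq hK (t := 1) _ one_ne_zero
  rw [mul_one, ← Units.val_pow_eq_pow_val, h1, Units.val_one]

omit D hm in
theorem pow_inj' {a : Kˣ} (h1 : a ^ (2 * 3 ^ (m + 1) + 3) = 1) : a = 1 := by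
  apply eq_one_of_mul_eq' hK (t := 1) _ one_ne_zero
  rw [mul_one, ← Units.val_pow_eq_pow_val, h1, Units.val_one]

/-- a proper subgroup of the unipotent radical invariant under the torus is in the Frattini subgroup -/
theorem irr (R : Subgroup G) (hRU : R ≤ uSub D) (hR : ∀ a, ∀ r ∈ R, h a * r * (h a)⁻¹ ∈ R)
    (hRΦ : ¬ R ≤ phi D) : R = uSub D := by
  have hR' : ∀ (a : Kˣ) (t u v : K), U t u v ∈ R → U ((a : K) ^ (3 ^ (m + 1)) * t)
      ((a : K) ^ (3 ^ (m + 1) + 3) * u) ((a : K) ^ (2 * 3 ^ (m + 1) + 3) * v) ∈ R := by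
    intro a t u v hr
    have := hR a _ hr
    rwa [D.h_U, mul_inv_cancel_right] at this
  rw [SetLike.not_le_iff_exists] at hRΦ
  obtain ⟨r, hr, hrΦ⟩ := hRΦ
  obtain ⟨t₀, u₀, v₀, rfl⟩ := hRU hr
  have ht₀ : t₀ ≠ 0 := by
    rintro rfl
    exact hrΦ ⟨u₀, v₀, rfl⟩
  -- all `t`
  have hall1 : ∀ t, ∃ u v, U t u v ∈ R := by
    let W : AddSubgroup K :=
      { carrier := {t | ∃ u v, U t u v ∈ R}
        add_mem' := by
          rintro t t' ⟨u, v, h1⟩ ⟨u', v', h2⟩
          have h3 := R.mul_mem h1 h2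
          rw [D.U_mul] at h3
          exact ⟨_, _, h3⟩
        zero_mem' := ⟨0, 0, by rw [D.U_zero]; exact R.one_mem⟩
        neg_mem' := by
          rintro t ⟨u, v, h1⟩
          have h3 := R.mul_mem h1 h1
          rw [D.U_mul] at h3
          have h4 : t + t = -t := by
            have := three_eq_zero hK
            linear_combination t * this
          rw [h4] at h3
          exact ⟨_, _, h3⟩ }
    intro t
    have := RkField.all_of_ker (W := W) (powMonoidHom (3 ^ (m + 1)))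
      (by
        rintro a w ⟨u, v, h1⟩
        exact ⟨_, _, hR' a _ _ _ h1⟩)
      (RkField.ker_le_one fun a ha => pow_inj hK ha) (w := t₀) ⟨u₀, v₀, hr⟩ ht₀ t
    exact this
  -- all `v`
  have hall3 : ∀ v, U 0 0 v ∈ R := by
    let W : AddSubgroup K :=
      { carrier := {v | U 0 0 v ∈ R}
        add_mem' := by
          intro v v' h1 h2
          have h3 := R.mul_mem h1 h2
          rw [D.U_mul] at h3
          simpa using h3
        zero_mem' := by
          change U 0 0 0 ∈ R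
          rw [D.U_zero]; exact R.one_mem
        neg_mem' := by
          intro v h1
          have h3 := R.mul_mem h1 h1
          rw [D.U_mul] at h3
          have h4 : v + v = -v := by
            have := three_eq_zero hK
            linear_combination v * this
          change U 0 0 (-v) ∈ R
          simpa [h4] using h3 }
    intro v
    have h1 : U t₀ u₀ v₀ ^ 3 ∈ R := R.pow_mem hr 3
    rw [U_cube D hK] at h1
    have := RkField.all_of_ker (W := W) (powMonoidHom (2 * 3 ^ (m + 1) + 3))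
      (by
        intro a w h1
        have := hR' a _ _ _ h1
        change U 0 0 _ ∈ R
        simpa using this)
      (RkField.ker_le_one fun a ha => pow_inj' hK ha) (w := -(t₀ ^ 2 * t₀ ^ (3 ^ (m + 1)))) h1
      (neg_ne_zero.2 (mul_ne_zero (pow_ne_zero _ ht₀) (pow_ne_zero _ ht₀))) v
    exact this
  -- an element with `t = 0`, `u ≠ 0`
  have hzero : ∀ u v, U 0 u v ∈ R → U 0 u 0 ∈ R := by
    intro u v h1
    have h2 := R.mul_mem h1 (hall3 (-v))
    rw [D.U_mul] at h2
    simpa using h2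
  have hall2 : ∀ u, U 0 u 0 ∈ R := by
    let W : AddSubgroup K :=
      { carrier := {u | U 0 u 0 ∈ R}
        add_mem' := by
          intro v v' h1 h2
          have h3 := R.mul_mem h1 h2
          rw [D.U_mul] at h3
          simpa using h3
        zero_mem' := by
          change U 0 0 0 ∈ R
          rw [D.U_zero]; exact R.one_mem
        neg_mem' := by
          intro v h1
          have h3 := R.mul_mem h1 h1
          rw [D.U_mul] at h3
          have h4 : v + v = -v := by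
            have := three_eq_zero hK
            linear_combination v * this
          change U 0 (-v) 0 ∈ R
          simpa [h4] using h3 }
    -- a `t` not fixed by the automorphism
    obtain ⟨t, ht⟩ : ∃ t : K, t ^ (3 ^ (m + 1)) ≠ t := by
      by_contra hcon
      push Not at hcon
      let P : Polynomial K := Polynomial.X ^ (3 ^ (m + 1)) - Polynomial.X
      have h1 : 1 < 3 ^ (m + 1) := Nat.one_lt_pow (by omega) (by norm_num)
      have hP : P ≠ 0 := FiniteField.X_pow_card_sub_X_ne_zero K h1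
      have h2 : P.natDegree = 3 ^ (m + 1) := FiniteField.X_pow_card_sub_X_natDegree_eq K h1
      have h3 : (Finset.univ : Finset K).card ≤ P.natDegree := by
        apply Polynomial.card_le_degree_of_subset_roots
        intro t _
        rw [Polynomial.mem_roots hP]
        change P.eval t = 0
        simp [P, hcon t]
      rw [h2, Finset.card_univ, hK] at h3
      have h4 := (Nat.pow_le_pow_iff_right (by norm_num : 1 < 3)).1 h3
      omega
    obtain ⟨u₁, v₁, h1⟩ := hall1 t
    obtain ⟨u₂, v₂, h2⟩ := hall1 1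
    have h3 := R.mul_mem (R.mul_mem h1 h2) (R.inv_mem (R.mul_mem h2 h1))
    have h4 : ∃ v, U t u₁ v₁ * U 1 u₂ v₂ = U 0 (t ^ (3 ^ (m + 1)) - t) v * (U 1 u₂ v₂ * U t u₁ v₁) := by
      refine ⟨(v₁ + v₂ - u₁ * 1 - t ^ 2 * 1 + t * 1 * 1) -
        (v₂ + v₁ - u₂ * t - 1 * t ^ (3 ^ (m + 1)) + 1 * t * t ^ (3 ^ (m + 1))) +
        (t ^ (3 ^ (m + 1)) - t) * (1 + t), ?_⟩
      simp only [D.U_mul]
      have hz : (0 : K) ^ (3 ^ (m + 1)) = 0 := zero_pow_three_pow _
      congr 1
      · ring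
      · simp only [one_pow]
        ring
      · simp only [one_pow]
        ring
    obtain ⟨v, h5⟩ := h4
    rw [h5, mul_inv_cancel_right] at h3
    intro u
    have := RkField.all_of_ker (W := W) (powMonoidHom (3 ^ (m + 1) + 3))
      (by
        intro a w h1
        have := hR' a _ _ _ h1
        change U 0 _ 0 ∈ R
        simpa using this)
      (RkField.ker_le_two fun a ha => sq_eq_one_of_pow_add_three hK a ha) (w := t ^ (3 ^ (m + 1)) - t)
      (hzero _ _ h3) (sub_ne_zero.2 ht) u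
    exact this
  apply le_antisymm hRU
  rintro _ ⟨t, u, v, rfl⟩
  obtain ⟨u₁, v₁, h1⟩ := hall1 t
  have h2 := R.mul_mem (R.mul_mem (hall2 (u - u₁)) (hall3 (v - (v₁ - (u - u₁) * t)))) h1
  simp only [D.U_mul] at h2
  have h3 : (0 : K) ^ (3 ^ (m + 1)) = 0 := zero_pow_three_pow _
  convert h2 using 1
  congr 1
  · simp
  · simp
  · simp only [h3]
    ring

theorem rk : Rk 3 (bSub D) (uSub D) (phi D) n where
  prime := Nat.prime_three
  data := rank_one D
  ne := by
    intro h1
    have h2 := card_uSub D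
    rw [h1, Subgroup.card_bot] at h2
    have h3 : 1 < Fintype.card K := Fintype.one_lt_card
    have h4 : 1 < Fintype.card K ^ 3 := Nat.one_lt_pow (by norm_num) h3
    omega
  pgrp := by
    apply IsPGroup.of_card (n := 3 * (2 * m + 1))
    rw [card_uSub D, hK, ← pow_mul, mul_comm]
  cyc := by
    rw [tor_eq D]
    exact isCyclic_hSub D
  cop := by
    rw [tor_eq D, card_hSub D, hK]
    intro h1
    have h2 : 3 ∣ 3 ^ (2 * m + 1) := dvd_pow_self 3 (by omega)
    have h3 : 1 ≤ 3 ^ (2 * m + 1) := Nat.one_le_pow _ _ (by norm_num)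
    have h4 := (Nat.dvd_sub h2 h1)
    rw [Nat.sub_sub_self h3] at h4
    omega
  small := by
    rw [tor_eq D, card_hSub D, card_uSub D]
    exact (Nat.sub_le _ _).trans (Nat.le_self_pow (by norm_num) _)
  lt := by
    rw [SetLike.lt_iff_le_and_exists]
    refine ⟨?_, U 1 0 0, ⟨_, _, _, rfl⟩, ?_⟩
    · rintro _ ⟨u, v, rfl⟩
      exact ⟨_, _, _, rfl⟩
    · rintro ⟨u, v, h1⟩
      exact one_ne_zero (U_injective D h1).1
  irr := by
    intro R hR hinv
    rw [or_iff_not_imp_left]
    intro h1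
    refine irr D hK hm R hR (fun a r hr => ?_) h1
    have h2 := (mem_tor_iff D (h a)).2 ⟨a, rfl⟩
    rw [mem_tor] at h2
    exact hinv _ h2.1 h2.2 r hr

omit D in
/-- the abstract form: a group isomorphic to `²G₂(K)` -/
theorem exists_rk {T : Type*} [Group T] (e : T ≃* ↥(Cfsg.Lie.twistedG2 K (3 ^ m))) :
    ∃ (p : ℕ) (H S Φ : Subgroup T) (w : T), Rk p H S Φ w ∧ Nat.card S = Fintype.card K ^ 3 := by
  obtain ⟨U, h, n, D₀⟩ := Cfsg.Agent.ChevalleyStructure.Ree.Data.exists_data hK
  have D := ReeTwo.data_map e.symm D₀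
  exact ⟨3, _, _, _, _, rk D hK hm, card_uSub D⟩

end Cfsg.Agent.H88.RkRee
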