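import Mathlib
import Cfsg.Agent.H88.RkData
import Cfsg.Agent.H88.RkField
import Cfsg.Agent.H177.PSUCenter
import Cfsg.Agent.H112.SUIso

/-!
# `PSU(3, q)`: rank one data with a cyclic torus, irreducible on the Frattini quotient (helper88)
-/

set_option autoImplicit false

namespace Cfsg.Agent.H88.RkPsu

open Matrix Subgroup Cfsg.Agent.UThreeGen.MatGroup

variable {F : Type*} [Field F] {σ : F →+* F} [hσ : Fact (∀ x, σ (σ x) = x)]

theorem tor_eq : tor (borel σ) (wel σ) = (H112.tor σ).range := by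
  ext g
  rw [mem_tor]
  constructor
  · rintro ⟨h1, h2⟩
    obtain ⟨h10, h20, h01, h21, h02, h12⟩ := entries_of_mem h1 h2
    have hdet : g.1.1.det = 1 := g.1.2
    rw [Matrix.det_fin_three, h10, h20, h01, h21, h02, h12] at hdet
    have h00 : g.1.1 0 0 ≠ 0 := by
      intro h0
      rw [h0] at hdet
      simp at hdet
    have e20 := entry_of_mem_SUG g.2 2 0
    simp only [h10, h20, h12, h02, zero_mul, mul_zero, add_zero, zero_add, sub_zero, map_zero] at e20
    have j20 : Gm F 2 0 = 1 := by simp [Gm]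
    rw [j20] at e20
    have hs00 : σ (g.1.1 0 0) ≠ 0 := (map_ne_zero σ).2 h00
    have h22 : g.1.1 2 2 = (σ (g.1.1 0 0))⁻¹ := eq_inv_of_mul_eq_one_left e20
    have h11 : g.1.1 1 1 = σ (g.1.1 0 0) / g.1.1 0 0 := by
      rw [h22] at hdet
      field_simp at hdet ⊢
      linear_combination hdet
    refine ⟨Units.mk0 _ h00, ?_⟩
    apply Subtype.ext
    apply Subtype.ext
    change H112.tmat σ _ = g.1.1
    ext i j
    fin_cases i <;> fin_cases j <;> simp [H112.tmat, h10, h20, h01, h21, h02, h12, h11, h22]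
  · rintro ⟨ε, rfl⟩
    have hb : ∀ δ : Fˣ, H112.tor σ δ ∈ borel σ := by
      intro δ
      rw [mem_borel, H112.tor_val]
      simp [H112.tmat]
    refine ⟨hb ε, ?_⟩
    rw [wel_inv, H112.wel_tor_wel]
    exact hb _

/-- the Frattini subgroup of the unipotent radical -/
def phi (σ : F →+* F) [hσ : Fact (∀ x, σ (σ x) = x)] : Subgroup (SUG σ) where
  carrier := {g | ∃ x : HG σ, x.a = 0 ∧ g = emb σ x}
  mul_mem' := by
    rintro _ _ ⟨x, hx, rfl⟩ ⟨y, hy, rfl⟩
    exact ⟨x * y, by rw [mul_a, hx, hy, add_zero], by rw [map_mul]⟩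
  one_mem' := ⟨1, rfl, by rw [map_one]⟩
  inv_mem' := by
    rintro _ ⟨x, hx, rfl⟩
    exact ⟨x⁻¹, by rw [inv_a, hx, neg_zero], by rw [map_inv]⟩

theorem mem_phi {x : HG σ} : emb σ x ∈ phi σ ↔ x.a = 0 := by
  constructor
  · rintro ⟨y, hy, h⟩
    rw [emb_injective h, hy]
  · intro h
    exact ⟨x, h, rfl⟩

/-- the weight on the first coordinate -/
def wt (σ : F →+* F) : Fˣ →* Fˣ := powMonoidHom 2 * (Units.map (σ : F →* F))⁻¹

omit hσ in
theorem wt_val (ε : Fˣ) : ((wt σ ε : Fˣ) : F) = ε ^ 2 / σ ε := by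
  simp [wt, div_eq_mul_inv]

theorem ker_wt : Nat.card (wt σ).ker ≤ 3 := by
  classical
  have hsub : ((wt σ).ker : Set Fˣ) ⊆ {a : Fˣ | a ^ 3 = 1} := by
    intro ε hε
    have h1 : (ε : F) ^ 2 / σ ε = 1 := by
      rw [← wt_val, (hε : wt σ ε = 1), Units.val_one]
    have h2 : σ (ε : F) ≠ 0 := (map_ne_zero σ).2 ε.ne_zero
    rw [div_eq_one_iff_eq h2] at h1
    have h3 : (σ (ε : F)) ^ 2 = (ε : F) := by
      rw [← map_pow, h1, sig]
    have h5 : (ε : F) * (ε : F) ^ 3 = (ε : F) * 1 := by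
      rw [mul_one]
      calc (ε : F) * (ε : F) ^ 3 = ((ε : F) ^ 2) ^ 2 := by ring
        _ = (ε : F) := by rw [h1, h3]
    apply Units.ext
    simpa using mul_left_cancel₀ ε.ne_zero h5
  set Z : Set F := (↑(Polynomial.nthRoots 3 (1 : F)).toFinset : Set F) with hZ
  have hfin : Z.Finite := Finset.finite_toSet _
  have h2 : ({a : Fˣ | a ^ 3 = 1} : Set Fˣ) ⊆ (fun u : Fˣ => (u : F)) ⁻¹' Z := by
    intro a ha
    have ha : a ^ 3 = 1 := ha
    rw [Set.mem_preimage, hZ, Finset.mem_coe, Multiset.mem_toFinset, Polynomial.mem_nthRoots (by norm_num)]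
    rw [← Units.val_pow_eq_pow_val, ha, Units.val_one]
  have h3 : (((fun u : Fˣ => (u : F)) ⁻¹' Z : Set Fˣ)).ncard ≤ 3 := by
    have h4 : ((fun u : Fˣ => (u : F)) '' ((fun u : Fˣ => (u : F)) ⁻¹' Z)).ncard ≤ Z.ncard :=
      Set.ncard_le_ncard (Set.image_preimage_subset _ _) hfin
    rw [Set.ncard_image_of_injective _ Units.val_injective, hZ, Set.ncard_coe_finset] at h4
    exact h4.trans ((Multiset.toFinset_card_le _).trans (Polynomial.card_nthRoots 3 1))
  have hfin2 : (((fun u : Fˣ => (u : F)) ⁻¹' Z : Set Fˣ)).Finite :=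
    Set.Finite.preimage (Units.val_injective.injOn) hfin
  exact (Set.ncard_le_ncard (hsub.trans h2) hfin2).trans h3

variable [Fintype F] {q : ℕ} (hF : Fintype.card F = q ^ 2) (hs : ∀ x, σ x = x ^ q) (hq : 3 ≤ q)

include hF in
theorem card_tor : Nat.card (tor (borel σ) (wel σ)) = q ^ 2 - 1 := by
  rw [tor_eq, ← Nat.card_congr (MonoidHom.ofInjective H112.tor_injective).toEquiv, Nat.card_units,
    Nat.card_eq_fintype_card, hF]

include hF hs in
theorem card_emb : Nat.card (emb σ).range = q ^ 3 := by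
  rw [← Nat.card_congr (MonoidHom.ofInjective emb_injective).toEquiv]
  exact H177.PSUCenter.card_HG hF hs

include hF hs hq in
theorem irr (R : Subgroup (SUG σ)) (hRU : R ≤ (emb σ).range)
    (hR : ∀ ε, ∀ r ∈ R, H112.tor σ ε * r * (H112.tor σ ε)⁻¹ ∈ R) (hRΦ : ¬ R ≤ phi σ) : R = (emb σ).range := by
  have hR' : ∀ (ε : Fˣ) (x : HG σ), emb σ x ∈ R → emb σ (H112.act ε x) ∈ R := by
    intro ε x hx
    rw [← H112.tor_conj]
    exact hR ε _ hx
  rw [SetLike.not_le_iff_exists] at hRΦ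
  obtain ⟨r, hr, hrΦ⟩ := hRΦ
  obtain ⟨x₀, rfl⟩ := hRU hr
  have ha₀ : x₀.a ≠ 0 := fun h => hrΦ (mem_phi.2 h)
  have hall1 : ∀ a, ∃ x : HG σ, x.a = a ∧ emb σ x ∈ R := by
    let W : AddSubgroup F :=
      { carrier := {a | ∃ x : HG σ, x.a = a ∧ emb σ x ∈ R}
        add_mem' := by
          rintro _ _ ⟨x, rfl, hx⟩ ⟨y, rfl, hy⟩
          exact ⟨x * y, rfl, by rw [map_mul]; exact R.mul_mem hx hy⟩
        zero_mem' := ⟨1, rfl, by rw [map_one]; exact R.one_mem⟩
        neg_mem' := by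
          rintro _ ⟨x, rfl, hx⟩
          exact ⟨x⁻¹, rfl, by rw [map_inv]; exact R.inv_mem hx⟩ }
    intro a
    have := RkField.all (W := W) (I := {x : F | ∃ ε : Fˣ, x = wt σ ε}) (by
        rintro _ ⟨ε, rfl⟩ _ ⟨x, rfl, hx⟩
        refine ⟨_, ?_, hR' ε x hx⟩
        rw [wt_val, H112.act_a])
      (by
        rintro ⟨ε, h⟩
        exact (wt σ ε).ne_zero h.symm)
      (by
        have h1 := RkField.ncard_image (wt σ) ker_wt
        rw [Nat.card_eq_fintype_card, hF] at h1 ⊢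
        have h2 : q < ({x : F | ∃ a : Fˣ, x = wt σ a} : Set F).ncard + 1 := by
          by_contra h3
          have h4 : (q - 1) * (q - 1) = q ^ 2 - 2 * q + 1 := by
            zify [show 1 ≤ q by omega, show 2 * q ≤ q ^ 2 by nlinarith]
            ring
          have h5 : 2 * q ≤ q ^ 2 := by nlinarith
          have h6 : 2 * (q - 1) ≤ (q - 1) * (q - 1) := Nat.mul_le_mul_right _ (by omega)
          omega
        exact Nat.pow_lt_pow_left h2 (by norm_num)) (w := x₀.a) ⟨x₀, rfl, hr⟩ ha₀ a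
    exact this
  -- an element of the centre
  obtain ⟨c, hc⟩ := LieClassical.HermBasic.exists_not_fixed hF
  rw [← hs] at hc
  obtain ⟨x, hxa, hx⟩ := hall1 c
  obtain ⟨y, hya, hy⟩ := hall1 1
  have hz : ∀ b : F, b + σ b = 0 → b + σ b = (0 : F) * σ 0 := by
    intro b hb
    rw [hb, zero_mul]
  have hδ : (c - σ c) + σ (c - σ c) = 0 := by
    rw [map_sub, sig]
    ring
  have hcomm : x * y = (⟨0, c - σ c, hz _ hδ⟩ : HG σ) * (y * x) := by
    ext
    · simp only [mul_a, hxa, hya]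
      ring
    · simp only [mul_b, mul_a, hxa, hya, map_one, mul_one, zero_mul, one_mul]
      ring
  have hmem : emb σ (⟨0, c - σ c, hz _ hδ⟩ : HG σ) ∈ R := by
    have h1 : (⟨0, c - σ c, hz _ hδ⟩ : HG σ) = x * y * (y * x)⁻¹ := by rw [hcomm, mul_inv_cancel_right]
    rw [h1, map_mul, map_mul, map_inv, map_mul]
    exact R.mul_mem (R.mul_mem hx hy) (R.inv_mem (R.mul_mem hy hx))
  have hne : c - σ c ≠ 0 := sub_ne_zero.2 (Ne.symm hc)
  have hall2 : ∀ (b : F) (hb : b + σ b = 0), emb σ (⟨0, b, hz b hb⟩ : HG σ) ∈ R := by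
    intro b hb
    by_cases hb0 : b = 0
    · subst hb0
      have : (⟨0, 0, hz 0 hb⟩ : HG σ) = 1 := by ext <;> simp
      rw [this, map_one]
      exact R.one_mem
    · have h1 : σ (b / (c - σ c)) = b / (c - σ c) := by
        rw [map_div₀]
        have h2 : σ b = -b := by linear_combination hb
        have h3 : σ (c - σ c) = -(c - σ c) := by linear_combination hδ
        rw [h2, h3, neg_div_neg_eq]
      obtain ⟨ε, hε⟩ := UThreeGen.Recog.exists_norm (σ := σ) (by omega) hs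
        (by rw [Nat.card_eq_fintype_card, hF]) h1
      have hε0 : ε ≠ 0 := by
        rintro rfl
        rw [zero_mul, eq_comm, div_eq_zero_iff] at hε
        exact hε.elim hb0 hne
      have h2 := hR' (Units.mk0 ε hε0) _ hmem
      have h3 : H112.act (Units.mk0 ε hε0) (⟨0, c - σ c, hz _ hδ⟩ : HG σ) = ⟨0, b, hz b hb⟩ := by
        ext
        · rw [H112.act_a]
          simp
        · rw [H112.act_b]
          change ε * σ ε * (c - σ c) = b
          rw [hε, div_mul_cancel₀ _ hne]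
      rwa [h3] at h2
  apply le_antisymm hRU
  rintro _ ⟨z, rfl⟩
  obtain ⟨v, hva, hv⟩ := hall1 z.a
  have hb : (z.b - v.b) + σ (z.b - v.b) = 0 := by
    have h1 := z.h
    have h2 := v.h
    rw [hva] at h2
    rw [map_sub]
    linear_combination h1 - h2
  have h1 : z = (⟨0, z.b - v.b, hz _ hb⟩ : HG σ) * v := by
    ext
    · simp [hva]
    · simp
  rw [h1, map_mul]
  exact R.mul_mem (hall2 _ hb) hv

include hF hs hq in
theorem rk {p n : ℕ} (hp : p.Prime) (hn : n ≠ 0) (hqp : q = p ^ n) :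
    Rk p (borel σ) (emb σ).range (phi σ) (wel σ) where
  prime := hp
  data := data_SUG
  ne := by
    intro h
    have h1 := card_emb (σ := σ) hF hs
    rw [h, Subgroup.card_bot] at h1
    have h2 : 1 < q ^ 3 := Nat.one_lt_pow (by norm_num) (by omega)
    omega
  pgrp := by
    apply IsPGroup.of_card (n := n * 3)
    rw [card_emb hF hs, hqp, ← pow_mul]
  cyc := by
    rw [tor_eq]
    exact isCyclic_of_surjective (H112.tor σ).rangeRestrict (H112.tor σ).rangeRestrict_surjective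
  cop := by
    rw [card_tor hF, hqp, ← pow_mul]
    intro h1
    have h2 : p ∣ p ^ (n * 2) := dvd_pow_self p (by omega)
    have h3 : 1 ≤ p ^ (n * 2) := Nat.one_le_pow _ _ hp.pos
    have h4 := Nat.dvd_sub h2 h1
    rw [Nat.sub_sub_self h3] at h4
    exact hp.one_lt.ne' (Nat.dvd_one.1 h4)
  small := by
    rw [card_tor hF, card_emb hF hs]
    exact (Nat.sub_le _ _).trans (Nat.pow_le_pow_right (by omega) (by norm_num))
  lt := by
    obtain ⟨e, he⟩ := H177.PSUCenter.exists_trace_one (σ := σ) hF hs hσ.out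
    obtain ⟨x, hx⟩ := H177.PSUCenter.exists_a (σ := σ) he 1
    rw [SetLike.lt_iff_le_and_exists]
    refine ⟨?_, emb σ x, ⟨x, rfl⟩, ?_⟩
    · rintro _ ⟨x, -, rfl⟩
      exact ⟨x, rfl⟩
    · rw [mem_phi, hx]
      exact one_ne_zero
  irr := by
    intro R hR hinv
    rw [or_iff_not_imp_left]
    intro h1
    refine irr hF hs hq R hR (fun a r hr => ?_) h1
    have h2 : H112.tor σ a ∈ tor (borel σ) (wel σ) := by
      rw [tor_eq]
      exact ⟨a, rfl⟩
    rw [mem_tor] at h2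
    exact hinv _ h2.1 h2.2 r hr

omit hσ in
include hF hq in
/-- the abstract form: a group isomorphic to `PSU(3, q)` -/
theorem exists_rk {T : Type*} [Group T] (f : T ≃* Cfsg.PSU 3 F q) :
    ∃ (p : ℕ) (H S Φ : Subgroup T) (w : T), Rk p H S Φ w ∧ Nat.card S = q ^ 3 := by
  obtain ⟨σ, p, e, g, D⟩ := H112.exists_FQ (F := F) (q := q) (by rw [Nat.card_eq_fintype_card, hF])
  have hσ : Fact (∀ x, σ (σ x) = x) := ⟨D.sq_sig⟩
  have R := rk hF D.hs hq D.prime D.e_pos.ne' D.qp
  obtain ⟨π, hπ, hker⟩ := H177.PSUCenter.exists_pi (σ := σ) hF D.hs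
  have hx : ∃ x : HG σ, x.a ≠ 0 := by
    obtain ⟨e, he⟩ := H177.PSUCenter.exists_trace_one (σ := σ) hF D.hs hσ.out
    obtain ⟨x, hx⟩ := H177.PSUCenter.exists_a (σ := σ) he 1
    exact ⟨x, by rw [hx]; exact one_ne_zero⟩
  have hk1 : π.ker ≤ borel σ := fun g hg => center_le_borel hx ((hker g).1 hg)
  have R1 := R.quot π hπ hk1
  have h1 := R.card_quot π hk1
  have R2 := R1.map f.symm
  have hk2 : f.symm.toMonoidHom.ker ≤ (borel σ).map π := by
    have : f.symm.toMonoidHom.ker = ⊥ := (MonoidHom.ker_eq_bot_iff _).2 f.symm.injective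
    rw [this]
    exact bot_le
  have h2 := R1.card_quot f.symm.toMonoidHom hk2
  exact ⟨p, _, _, _, _, R2, by rw [h2, h1, card_emb hF D.hs]⟩

end Cfsg.Agent.H88.RkPsu
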