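import Cfsg.Agent.H88.Graph22
import Cfsg.Agent.SporadicRecognition.HSAssemble

/-!
# The centralisers of the elements of order 7 in `HS` have order prime to 5 (helper88)
-/

set_option autoImplicit false

namespace Cfsg.Agent.H88.CentHS

open MulAction Cfsg Cfsg.Agent.SporadicRecognition.RankThree Cfsg.Agent.SporadicRecognition.HSAssemble

/-- the data of the rank three action -/
theorem dat {G X : Type*} [Group G] [MulAction G X] [Fintype X] [Finite G] {a b c : X}
    (h : IsRankThree G a b c 22 77) (hG : Nat.card G = 44352000) : Graph22.Dat (G := G) (Orb G a b : X → X → Prop) := by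
  classical
  have S := srg h
  have htr := h.trans
  refine
    { symm := fun v w => h.orb_symm
      inv := fun g v w hvw => hvw.smul g
      irr := fun v hv => h.orb_ne hv rfl
      card := by rw [Nat.card_eq_fintype_card, S.card]
      deg := ?_
      tri := ?_
      six := ?_
      seven := ?_ }
  · intro v
    have h1 := S.regular v
    rw [← SimpleGraph.card_neighborSet_eq_degree, ← Nat.card_eq_fintype_card] at h1
    exact h1
  · intro v w u hvw hvu hwu
    have h1 := S.of_adj v w hvw
    rw [Fintype.card_eq_zero_iff] at h1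
    exact h1.false ⟨u, hvu, hwu⟩
  · intro v w hvw hR
    have h1 := S.of_not_adj hvw hR
    rw [← Nat.card_eq_fintype_card] at h1
    exact h1
  · intro x hx v w hvw hR hv hw
    obtain ⟨g, rfl, rfl⟩ := (h.not_adj_iff hvw).1 hR
    have e1 : Nat.card (stabilizer G a) = 443520 := by
      have h1 := (stabilizer G a).index_mul_card
      rw [index_stabilizer_of_transitive, hG, Nat.card_eq_fintype_card, S.card] at h1
      omega
    have e2 : Nat.card (stabilizer (stabilizer G a) c) = 5760 := by
      have h1 := (stabilizer (stabilizer G a) c).index_mul_card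
      have h2 : (stabilizer (stabilizer G a) c).index = 77 := by
        rw [index_stabilizer, h.cc]
      rw [h2, e1] at h1
      omega
    have hxa : (g⁻¹ * x * g) • a = a := by
      rw [mul_smul, mul_smul, hv, inv_smul_smul]
    have hxc : (g⁻¹ * x * g) • c = c := by
      rw [mul_smul, mul_smul, hw, inv_smul_smul]
    let z : stabilizer (stabilizer G a) c := ⟨⟨g⁻¹ * x * g, hxa⟩, hxc⟩
    have hz : orderOf z = 7 := by
      rw [← Subgroup.orderOf_coe, ← Subgroup.orderOf_coe, ← hx]
      have h3 : ((z : stabilizer G a) : G) = (MulAut.conj g⁻¹) x := by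
        rw [MulAut.conj_apply, inv_inv]
      rw [h3]
      exact orderOf_injective (MulAut.conj g⁻¹).toMonoidHom (MulAut.conj g⁻¹).injective x
    have h3 := orderOf_dvd_natCard z
    rw [hz, e2] at h3
    norm_num at h3

theorem not_dvd {K : Type*} [Group K] (h : Spor.IsoHS K) (x : K) (hx : orderOf x = 7) :
    ¬ 5 ∣ Nat.card (Subgroup.centralizer ({x} : Set K)) := by
  intro h5
  obtain ⟨H, Y, _, _, _, _, a, b, c, hr, hc, -, ⟨e⟩⟩ := hs_rank
  obtain ⟨e'⟩ := h
  have hfin : Finite H := Nat.finite_of_card_ne_zero (by rw [hc]; norm_num)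
  let φ : K ≃* H := e'.trans e.symm
  have hK : Finite K := Finite.of_equiv _ φ.symm.toEquiv
  have D := dat hr hc
  have hf : Fact (Nat.Prime 5) := ⟨by norm_num⟩
  obtain ⟨y, hy⟩ := exists_prime_orderOf_dvd_card' 5 h5
  refine D.not_comm (x := φ x) (y := φ y) ?_ ?_ ?_
  · rw [← hx]
    exact orderOf_injective φ.toMonoidHom φ.injective x
  · rw [← hy, ← Subgroup.orderOf_coe]
    exact orderOf_injective φ.toMonoidHom φ.injective (y : K)
  · rw [← map_mul, ← map_mul, Subgroup.mem_centralizer_singleton_iff.1 y.2]

end Cfsg.Agent.H88.CentHS
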