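import Mathlib
import Cfsg.Agent.H88.SysNum

/-!
# The centralisers of the elements of order 7 in `M22` (helper88)

Only the order, the simplicity and `|C(x)| ∣ 42` (from the action on 22 points) are used.
-/

set_option autoImplicit false

namespace Cfsg.Agent.H88.CentM22

open Subgroup

variable {K : Type*} [Group K] [Finite K] [IsSimpleGroup K] {p : ℕ} [hp : Fact p.Prime]

/-- Burnside -/
theorem card_normalizer_ne (hna : ¬ ∀ x y : K, x * y = y * x) {P : Subgroup K} (hP : Nat.card P = p)
    (hp2 : ¬ p ^ 2 ∣ Nat.card K) :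
    Nat.card (normalizer (P : Set K)) ≠ Nat.card (centralizer (P : Set K)) := by
  intro heq
  obtain ⟨S, hS⟩ := H970.StabK.exists_sylow hP hp2
  have hle : normalizer (P : Set K) ≤ centralizer (P : Set K) := by
    have h := Subgroup.eq_of_le_of_card_ge (centralizer_le_normalizer (P : Set K)) heq.le
    exact h.ge
  have hcyc : IsCyclic P := isCyclic_of_prime_card hP
  have hcomm : ∀ a ∈ P, ∀ b ∈ P, a * b = b * a := by
    intro a ha b hb
    exact (mem_centralizer_iff.1 (hle (le_normalizer hb)) a ha)
  have hle' : normalizer ((S : Subgroup K) : Set K) ≤ centralizer ((S : Subgroup K) : Set K) := by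
    rw [hS]
    exact hle
  have hcompl := MonoidHom.ker_transferSylow_isComplement' S hle'
  rcases IsSimpleGroup.eq_bot_or_eq_top_of_normal (MonoidHom.transferSylow S hle').ker inferInstance with h | h
  · rw [h, Subgroup.isComplement'_bot_left, hS] at hcompl
    apply hna
    intro x y
    exact hcomm x (by rw [hcompl]; trivial) y (by rw [hcompl]; trivial)
  · rw [h, Subgroup.isComplement'_top_left, hS] at hcompl
    rw [hcompl, Subgroup.card_bot] at hP
    exact hp.out.one_lt.ne hP

/-- **The centralisers of the elements of order 7.** -/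
theorem card_cent (hna : ¬ ∀ x y : K, x * y = y * x) (hK : Nat.card K = 443520) {x : K} (hx : orderOf x = 7)
    (h42 : Nat.card (centralizer ({x} : Set K)) ∣ 42) : Nat.card (centralizer ({x} : Set K)) = 7 := by
  have hf : Fact (Nat.Prime 7) := ⟨by norm_num⟩
  have hP : Nat.card (zpowers x) = 7 := by rw [Nat.card_zpowers, hx]
  have hp2 : ¬ 7 ^ 2 ∣ Nat.card K := by rw [hK]; norm_num
  obtain ⟨S, hS⟩ := H970.StabK.exists_sylow hP hp2
  have hC : Nat.card (centralizer ((zpowers x : Subgroup K) : Set K)) = Nat.card (centralizer ({x} : Set K)) := by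
    rw [zpowers_eq_closure, centralizer_closure]
  have h1 := card_normalizer_ne hna hP hp2
  have h2 := SysNum.card_normalizer_dvd (by norm_num) hP
  have h3 := card_dvd_of_le (centralizer_le_normalizer ((zpowers x : Subgroup K) : Set K))
  have h4 := card_sylow_modEq_one 7 K
  rw [Sylow.card_eq_index_normalizer S] at h4
  have h5 : (S : Set K) = ((zpowers x : Subgroup K) : Set K) := by rw [← hS]; rfl
  rw [h5] at h4
  have h6 := (normalizer ((zpowers x : Subgroup K) : Set K)).card_mul_index
  rw [hK] at h6
  have h7 : 7 ∣ Nat.card (centralizer ({x} : Set K)) := by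
    rw [← hx]
    have : x ∈ centralizer ({x} : Set K) := mem_centralizer_singleton_iff.2 rfl
    exact Subgroup.orderOf_dvd_natCard _ this
  rw [hC] at h1 h2 h3
  generalize Nat.card (centralizer ({x} : Set K)) = c at *
  generalize Nat.card (normalizer ((zpowers x : Subgroup K) : Set K)) = N at *
  generalize (normalizer ((zpowers x : Subgroup K) : Set K)).index = n at *
  obtain ⟨d, rfl⟩ := h7
  obtain ⟨j, rfl⟩ := h3
  have hd : d ∣ 6 := Nat.dvd_of_mul_dvd_mul_left (by norm_num : 0 < 7) (by simpa using h42)
  have hd0 : 0 < d := Nat.pos_of_dvd_of_pos hd (by norm_num)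
  have hj : j ∣ 6 := Nat.dvd_of_mul_dvd_mul_left (by omega : 0 < 7 * d) (by
    rw [mul_comm (7 * d) 6]; exact h2)
  have hj0 : 0 < j := Nat.pos_of_dvd_of_pos hj (by norm_num)
  have hj1 : j ≠ 1 := by
    rintro rfl
    exact h1 (mul_one _)
  have hd6 := Nat.le_of_dvd (by norm_num) hd
  have hj6 := Nat.le_of_dvd (by norm_num) hj
  have h8 : n % 7 = 1 := h4
  interval_cases d <;> interval_cases j <;> omega

end Cfsg.Agent.H88.CentM22
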