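import Mathlib
import Cfsg.Agent.ClassicalGeometry.SympBasic

/-!
# Quadratic forms over the field with two elements polarising to the symplectic form (helper88)

* `exists_y` : vectors with prescribed products and `Q = 1`;
* `Rel.univ` : a nontrivial equivalence relation on `{v | Q v = 1}` invariant under the transvections is universal;
* `exists_two` : two such quadratic forms have two common non-singular vectors.
-/

set_option autoImplicit false

namespace Cfsg.Agent.H88.SpForm

open Cfsg Cfsg.Agent.ClassicalGeometry.SympBasic Module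

variable {F : Type*} [Field F] {m : ℕ}

local notation "V" => (Fin m ⊕ Fin m → F)
local notation "f" => sympForm m F

/-- the symplectic form as a bilinear form -/
noncomputable abbrev B (m : ℕ) (F : Type*) [Field F] : LinearMap.BilinForm F (Fin m ⊕ Fin m → F) := sympBilin m F

/-- `y ↦ (f (z i) y)` -/
def L {k : ℕ} (z : Fin k → V) : V →ₗ[F] (Fin k → F) := LinearMap.pi fun i => sympBilin m F (z i)

theorem L_apply {k : ℕ} (z : Fin k → V) (y : V) (i : Fin k) : L z y i = f (z i) y := rfl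

theorem ker_L {k : ℕ} (z : Fin k → V) :
    LinearMap.ker (L z) = (B m F).orthogonal (Submodule.span F (Set.range z)) := by
  ext y
  rw [LinearMap.mem_ker, LinearMap.BilinForm.mem_orthogonal_iff]
  constructor
  · intro h n hn
    change sympBilin m F n y = 0
    induction hn using Submodule.span_induction with
    | mem x hx =>
      obtain ⟨i, rfl⟩ := hx
      exact congrFun h i
    | zero => rw [map_zero, LinearMap.zero_apply]
    | add x y' _ _ hx hy => rw [map_add, LinearMap.add_apply, hx, hy, add_zero]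
    | smul c x _ hx => rw [map_smul, LinearMap.smul_apply, hx, smul_zero]
  · intro h
    funext i
    exact h (z i) (Submodule.subset_span ⟨i, rfl⟩)

theorem finrank_ker {k : ℕ} {z : Fin k → V} (hz : LinearIndependent F z) :
    finrank F (LinearMap.ker (L z)) = 2 * m - k := by
  rw [ker_L, LinearMap.BilinForm.finrank_orthogonal sympBilin_nondegenerate, finrank_span_eq_card hz,
    Fintype.card_fin, finrank_fintype_fun_eq_card, Fintype.card_sum, Fintype.card_fin, two_mul]

theorem surjective_L {k : ℕ} {z : Fin k → V} (hz : LinearIndependent F z) : Function.Surjective (L z) := by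
  rw [← LinearMap.range_eq_top]
  apply Submodule.eq_top_of_finrank_eq
  have h1 := LinearMap.finrank_range_add_finrank_ker (L z)
  have h2 := hz.fintype_card_le_finrank
  rw [finrank_ker hz] at h1
  rw [finrank_fintype_fun_eq_card, Fintype.card_sum, Fintype.card_fin] at h1 h2
  rw [Fintype.card_fin] at h2
  rw [finrank_fintype_fun_eq_card, Fintype.card_fin]
  omega

/-- `ker L` is not totally isotropic -/
theorem exists_pair {k : ℕ} {z : Fin k → V} (hz : LinearIndependent F z) (hm : 3 ≤ m)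
    (hk : k ≤ 2 ∨ k ≤ 3 ∧ ∃ i j, f (z i) (z j) ≠ 0) : ∃ w₁ w₂ : V, L z w₁ = 0 ∧ L z w₂ = 0 ∧ f w₁ w₂ ≠ 0 := by
  by_contra hcon
  push Not at hcon
  have h1 : LinearMap.ker (L z) ≤ Submodule.span F (Set.range z) := by
    have h2 := LinearMap.BilinForm.orthogonal_orthogonal (B := B m F) sympBilin_nondegenerate
      (sympBilin_isAlt (m := m) (F := F)).isRefl (Submodule.span F (Set.range z))
    rw [← h2, ← ker_L]
    intro w hw
    rw [LinearMap.BilinForm.mem_orthogonal_iff]
    intro n hn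
    exact hcon n w hn hw
  have h3 := Submodule.finrank_mono h1
  have h4 := finrank_span_eq_card hz
  rw [Fintype.card_fin] at h4
  rw [finrank_ker hz, h4] at h3
  rcases hk with hk | ⟨hk, i, j, hij⟩
  · omega
  · have h5 : LinearMap.ker (L z) = Submodule.span F (Set.range z) := by
      apply Submodule.eq_of_le_of_finrank_eq h1
      rw [finrank_ker hz, h4]
      omega
    have h6 : z j ∈ LinearMap.ker (L z) := by
      rw [h5]
      exact Submodule.subset_span ⟨j, rfl⟩
    exact hij (congrFun h6 i)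

section h2

variable (h2 : ∀ a : F, a = 0 ∨ a = 1)
include h2

theorem one_add_one : (1 : F) + 1 = 0 := by
  rcases h2 (1 + 1) with h | h
  · exact h
  · exact absurd (add_eq_left.1 h) one_ne_zero

theorem add_self' (a : F) : a + a = 0 := by
  rcases h2 a with h | h
  · rw [h, add_zero]
  · rw [h, one_add_one h2]

theorem vadd_self (v : V) : v + v = 0 := by
  funext i
  exact add_self' h2 (v i)

theorem symm' (u v : V) : f u v = f v u := by
  have h := sympForm_swap (F := F) u v
  rw [h]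
  exact neg_eq_of_add_eq_zero_left (add_self' h2 _)

omit h2 in
theorem ind1 {z : V} (hz : z ≠ 0) : LinearIndependent F ![z] :=
  LinearIndependent.of_subsingleton 0 hz

theorem ind2 {z₁ z₂ : V} (h1 : z₁ ≠ 0) (h3 : z₂ ≠ 0) (h4 : z₁ ≠ z₂) : LinearIndependent F ![z₁, z₂] := by
  rw [LinearIndependent.pair_iff' h1]
  intro a h
  rcases h2 a with rfl | rfl
  · rw [zero_smul] at h
    exact h3 h.symm
  · rw [one_smul] at h
    exact h4 h

theorem ind3 {z₁ z₂ z₃ : V} (h1 : z₁ ≠ 0) (h3 : z₂ ≠ 0) (h4 : z₃ ≠ 0) (h5 : z₁ ≠ z₂) (h6 : z₁ ≠ z₃) (h7 : z₂ ≠ z₃)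
    (h8 : z₁ + z₂ + z₃ ≠ 0) : LinearIndependent F ![z₁, z₂, z₃] := by
  rw [Fintype.linearIndependent_iff]
  intro g hg
  rw [Fin.sum_univ_three] at hg
  simp only [Matrix.cons_val_zero, Matrix.cons_val_one, Matrix.cons_val] at hg
  have key : ∀ x y : V, x + y = 0 → x = y := by
    intro x y h
    rw [← add_zero x, ← vadd_self h2 y, ← add_assoc, h, zero_add]
  rcases h2 (g 0) with e0 | e0 <;> rcases h2 (g 1) with e1 | e1 <;> rcases h2 (g 2) with e2 | e2 <;>
    rw [e0, e1, e2] at hg <;> simp only [zero_smul, one_smul, zero_add, add_zero] at hg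
  · intro i
    fin_cases i
    · exact e0
    · exact e1
    · exact e2
  · exact absurd hg h4
  · exact absurd hg h3
  · exact absurd (key _ _ hg) h7
  · exact absurd hg h1
  · exact absurd (key _ _ hg) h6
  · exact absurd (key _ _ hg) h5
  · exact absurd hg h8

end h2

/-- a quadratic form polarising to the symplectic form, over the field with two elements -/
structure Qd (m : ℕ) {F : Type*} [Field F] (Q : (Fin m ⊕ Fin m → F) → F) : Prop where
  h2 : ∀ a : F, a = 0 ∨ a = 1
  hm : 3 ≤ m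
  hQ : ∀ v w : Fin m ⊕ Fin m → F, Q (v + w) = Q v + Q w + sympForm m F v w

namespace Qd

variable {Q : (Fin m ⊕ Fin m → F) → F} (q : Qd m Q)
include q

theorem exists_y {k : ℕ} {z : Fin k → V} (hz : LinearIndependent F z)
    (hk : k ≤ 2 ∨ k ≤ 3 ∧ ∃ i j, f (z i) (z j) ≠ 0) (α : Fin k → F) :
    ∃ y : V, (∀ i, f (z i) y = α i) ∧ Q y = 1 := by
  obtain ⟨y, hy⟩ := surjective_L hz α
  obtain ⟨w₁, w₂, hw₁, hw₂, hw⟩ := exists_pair hz q.hm hk
  by_contra hcon
  push Not at hcon
  have key : ∀ w : V, L z w = 0 → Q (y + w) = 0 := by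
    intro w hw
    refine (q.h2 _).resolve_right (hcon _ ?_)
    intro i
    have : L z (y + w) i = α i := by rw [map_add, hy, hw, add_zero]
    exact this
  have e0 := key 0 (map_zero _)
  have e1 := key w₁ hw₁
  have e2 := key w₂ hw₂
  have e3 := key (w₁ + w₂) (by rw [map_add, hw₁, hw₂, add_zero])
  rw [add_zero] at e0
  rw [q.hQ, e0, zero_add] at e1 e2 e3
  rw [q.hQ, sympForm_add_right] at e3
  apply hw
  calc f w₁ w₂ = (Q w₁ + Q w₂ + f w₁ w₂ + (f y w₁ + f y w₂)) - (Q w₁ + f y w₁) - (Q w₂ + f y w₂) := by ring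
    _ = 0 := by rw [e1, e2, e3]; ring

theorem exists_y1 {z : V} (hz : z ≠ 0) (α : F) : ∃ y : V, f z y = α ∧ Q y = 1 := by
  obtain ⟨y, hy, hQy⟩ := q.exists_y (ind1 hz) (Or.inl (by norm_num)) ![α]
  exact ⟨y, hy 0, hQy⟩

theorem exists_y2 {z₁ z₂ : V} (h1 : z₁ ≠ 0) (h3 : z₂ ≠ 0) (h4 : z₁ ≠ z₂) (α β : F) :
    ∃ y : V, f z₁ y = α ∧ f z₂ y = β ∧ Q y = 1 := by
  obtain ⟨y, hy, hQy⟩ := q.exists_y (ind2 q.h2 h1 h3 h4) (Or.inl le_rfl) ![α, β]
  exact ⟨y, hy 0, hy 1, hQy⟩

theorem exists_y3 {z₁ z₂ z₃ : V} (h1 : z₁ ≠ 0) (h3 : z₂ ≠ 0) (h4 : z₃ ≠ 0) (h5 : z₁ ≠ z₂) (h6 : z₁ ≠ z₃)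
    (h7 : z₂ ≠ z₃) (h8 : z₁ + z₂ + z₃ ≠ 0) (h9 : f z₁ z₂ ≠ 0) (α β γ : F) :
    ∃ y : V, f z₁ y = α ∧ f z₂ y = β ∧ f z₃ y = γ ∧ Q y = 1 := by
  obtain ⟨y, hy, hQy⟩ := q.exists_y (ind3 q.h2 h1 h3 h4 h5 h6 h7 h8) (Or.inr ⟨le_rfl, 0, 1, h9⟩) ![α, β, γ]
  exact ⟨y, hy 0, hy 1, hy 2, hQy⟩

theorem zero : Q 0 = 0 := by
  have h := q.hQ 0 0
  rw [add_zero, sympForm_self, add_zero] at h
  exact (left_eq_add.1 h)

theorem ne_zero {v : V} (h : Q v = 1) : v ≠ 0 := by
  rintro rfl
  rw [q.zero] at h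
  exact zero_ne_one h

/-- the sum of two non-orthogonal non-singular vectors -/
theorem add_one {u v : V} (hu : Q u = 1) (hv : Q v = 1) (h : f u v = 1) : Q (u + v) = 1 := by
  rw [q.hQ, hu, hv, h, one_add_one q.h2, zero_add]

/-- a nontrivial relation on `{v | Q v = 1}` -/
theorem univ {R : V → V → Prop} (hrefl : ∀ v, Q v = 1 → R v v) (hsymm : ∀ v w, Q v = 1 → Q w = 1 → R v w → R w v)
    (htrans : ∀ u v w, Q u = 1 → Q v = 1 → Q w = 1 → R u v → R v w → R u w)
    (hinv : ∀ u v w, Q u = 1 → Q v = 1 → Q w = 1 → f u v = 1 → f u w = 0 → R v w → R (u + v) w)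
    {v w : V} (hv : Q v = 1) (hw : Q w = 1) (hvw : v ≠ w) (hR : R v w) : ∀ x y, Q x = 1 → Q y = 1 → R x y := by
  have hs := symm' (F := F) (m := m) q.h2
  have hsplit : ∀ x y : V, f x y = 0 ∨ f x y = 1 := fun x y => q.h2 _
  have ne_of : ∀ {x y z : V}, f z x ≠ f z y → x ≠ y := by
    rintro x y z h rfl
    exact h rfl
  -- step 1
  obtain ⟨x, y, hx, hy, hxy, hRxy⟩ : ∃ x y : V, Q x = 1 ∧ Q y = 1 ∧ f x y = 1 ∧ R x y := by
    rcases hsplit v w with h | h
    · obtain ⟨u, hu1, hu2, hu⟩ := q.exists_y2 (q.ne_zero hv) (q.ne_zero hw) hvw 1 0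
      rw [hs] at hu1 hu2
      have h1 := hinv u v w hu hv hw hu1 hu2 hR
      have h3 : Q (u + v) = 1 := q.add_one hu hv hu1
      refine ⟨v, u + v, hv, h3, ?_, ?_⟩
      · rw [sympForm_add_right, sympForm_self, add_zero, hs, hu1]
      · exact htrans v w (u + v) hv hw h3 hR (hsymm _ _ h3 hw h1)
    · exact ⟨v, w, hv, hw, h, hR⟩
  -- step 2
  have step : ∀ v x : V, Q v = 1 → Q x = 1 → f v x = 1 → R v x → ∀ x', Q x' = 1 → f v x' = 1 → R v x' := by
    intro v x hv hx hvx hR
    have base : ∀ x x', Q x = 1 → f v x = 1 → R v x → Q x' = 1 → f v x' = 1 → f x x' = 1 → R v x' := by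
      intro x x' hx hvx hR hx' hvx' hxx'
      have hz : Q (x + x') = 1 := q.add_one hx hx' hxx'
      have h1 : f (x + x') x = 1 := by
        rw [sympForm_add_left, sympForm_self, zero_add, hs, hxx']
      have h3 : f (x + x') v = 0 := by
        rw [sympForm_add_left, hs x v, hs x' v, hvx, hvx', one_add_one q.h2]
      have h4 := hinv (x + x') x v hz hx hv h1 h3 (hsymm _ _ hv hx hR)
      have h5 : x + x' + x = x' := by
        rw [add_comm x x', add_assoc, vadd_self q.h2, add_zero]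
      rw [h5] at h4
      exact hsymm _ _ hx' hv h4
    intro x' hx' hvx'
    rcases hsplit x x' with h | h
    · by_cases hxx : x = x'
      · rw [← hxx]; exact hR
      · have h8 : v + x + x' ≠ 0 := by
          intro h0
          have h1 : f x (v + x + x') = 1 := by
            rw [sympForm_add_right, sympForm_add_right, sympForm_self, hs x v, hvx, h, add_zero, add_zero]
          rw [h0, sympForm_zero_right] at h1
          exact zero_ne_one h1
        have hvne : ∀ z, f v z = 1 → v ≠ z := by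
          rintro z h1 rfl
          rw [sympForm_self] at h1
          exact zero_ne_one h1
        obtain ⟨y, hy1, hy2, hy3, hy⟩ := q.exists_y3 (q.ne_zero hv) (q.ne_zero hx) (q.ne_zero hx') (hvne x hvx)
          (hvne x' hvx') hxx h8 (by rw [hvx]; exact one_ne_zero) 1 1 1
        have h1 := base x y hx hvx hR hy hy1 hy2
        exact base y x' hy hy1 h1 hx' hvx' (by rw [hs]; exact hy3)
    · exact base x x' hx hvx hR hx' hvx' h
  -- step 3
  have P := step x y hx hy hxy hRxy
  have key : ∀ z, Q z = 1 → R x z := by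
    intro z hz
    by_cases hxz : x = z
    · rw [hxz]; exact hrefl z hz
    · obtain ⟨y', h1, h3, hy'⟩ := q.exists_y2 (q.ne_zero hx) (q.ne_zero hz) hxz 1 1
      have h4 := P y' hy' h1
      have h5 := step y' x hy' hx (by rw [hs]; exact h1) (hsymm _ _ hx hy' h4) z hz (by rw [hs]; exact h3)
      exact htrans _ _ _ hx hy' hz h4 h5
  intro u z hu hz
  exact htrans u x z hu hx hz (hsymm _ _ hx hu (key u hu)) (key z hz)

/-- two forms have two common non-singular vectors -/
theorem exists_two {Q' : V → F} (q' : Qd m Q') : ∃ v w : V, v ≠ w ∧ Q v = 1 ∧ Q w = 1 ∧ Q' v = 1 ∧ Q' w = 1 := by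
  have hs := symm' (F := F) (m := m) q.h2
  -- a triangle gives a common vector
  have tri : ∀ u v, Q u = 1 → Q v = 1 → f u v = 1 → ∃ w, (w = u ∨ w = v ∨ w = u + v) ∧ Q w = 1 ∧ Q' w = 1 := by
    intro u v hu hv huv
    by_contra hcon
    push Not at hcon
    have h1 := (q.h2 _).resolve_right (hcon u (Or.inl rfl) hu)
    have h3 := (q.h2 _).resolve_right (hcon v (Or.inr (Or.inl rfl)) hv)
    have h4 := (q.h2 _).resolve_right (hcon (u + v) (Or.inr (Or.inr rfl)) (q.add_one hu hv huv))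
    rw [q'.hQ, h1, h3, huv, zero_add, zero_add] at h4
    exact one_ne_zero h4
  obtain ⟨z, hz⟩ : ∃ z : V, z ≠ 0 := by
    have : Nonempty (Fin m) := ⟨⟨0, by have := q.hm; omega⟩⟩
    exact exists_ne 0
  obtain ⟨u, -, hu⟩ := q.exists_y1 hz 0
  obtain ⟨v, huv, hv⟩ := q.exists_y1 (q.ne_zero hu) 1
  have hne : u ≠ v := by
    rintro rfl
    rw [sympForm_self] at huv
    exact zero_ne_one huv
  obtain ⟨u', h1, h3, hu'⟩ := q.exists_y2 (q.ne_zero hu) (q.ne_zero hv) hne 0 0
  obtain ⟨v', h4, hv'⟩ := q.exists_y1 (q.ne_zero hu') 1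
  obtain ⟨w, hw1, hw2, hw3⟩ := tri u v hu hv huv
  obtain ⟨w', hw1', hw2', hw3'⟩ := tri u' v' hu' hv' h4
  refine ⟨w, w', ?_, hw2, hw2', hw3, hw3'⟩
  rintro rfl
  have e1 : f u' w = 0 := by
    rcases hw1 with rfl | rfl | rfl
    · rw [hs]; exact h1
    · rw [hs]; exact h3
    · rw [hs, sympForm_add_left, h1, h3, add_zero]
  rcases hw1' with rfl | rfl | rfl
  · rcases hw1 with rfl | rfl | rfl
    · rw [hs, huv] at h3
      exact one_ne_zero h3
    · rw [huv] at h1
      exact one_ne_zero h1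
    · rw [sympForm_add_right, sympForm_self, zero_add, huv] at h1
      exact one_ne_zero h1
  · rw [h4] at e1
    exact one_ne_zero e1
  · rw [sympForm_add_right, sympForm_self, zero_add, h4] at e1
    exact one_ne_zero e1

/-- an element moving something moves a non-singular vector -/
theorem exists_moved {σ : V → V} (hσ : ∀ v w, σ (v + w) = σ v + σ w) (h : ∃ v, σ v ≠ v) : ∃ v, Q v = 1 ∧ σ v ≠ v := by
  by_contra hcon
  push Not at hcon
  obtain ⟨u, hu⟩ := h
  have h0 : σ 0 = 0 := by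
    have := hσ 0 0
    rw [add_zero] at this
    exact left_eq_add.1 this
  have hu0 : u ≠ 0 := by
    rintro rfl
    exact hu h0
  have hQu : Q u = 0 := (q.h2 _).resolve_right fun h => hu (hcon u h)
  obtain ⟨v, huv, hv⟩ := q.exists_y1 hu0 0
  have h1 : Q (u + v) = 1 := by rw [q.hQ, hQu, hv, huv, zero_add, add_zero]
  have h3 := hcon _ h1
  rw [hσ, hcon v hv, add_left_inj] at h3
  exact hu h3

end Qd

end Cfsg.Agent.H88.SpForm
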