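import Cfsg.Agent.H249.SpTwoExport
import Cfsg.Agent.H88.SpForm
import Cfsg.Agent.H88.SysNum

/-!
# The 2-transitive groups with socle `Sp_2m(2)` have no TI family (helper88)
-/

set_option autoImplicit false

namespace Cfsg.Agent.H88.SysSp

open Subgroup MulAction Cfsg.Agent.H360.ON
open Cfsg Cfsg.Agent.H249.SpTwo Cfsg.Agent.H384.TwoTrans
open Cfsg.Agent.ClassicalGeometry.SympBasic
open Cfsg.Agent.ClassicalGeometry.SympSiegel
open Cfsg.Agent.ClassicalGeometry.SympAutExists
open Cfsg.Agent.H88.SpForm

universe u v w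

variable {G : Type u} {X : Type v} [Group G] [MulAction G X] {T : Subgroup G} {N : X → Subgroup G}
variable {F : Type w} [Field F] [Fintype F] {m : ℕ} (e : ↥T ≃* PSp m F)

/-- an element commuting with all transvections is trivial -/
theorem eq_one (A : AS G X T) (hF : Fintype.card F = 2) (hm : 3 ≤ m) (x : G)
    (h : ∀ v : Fin m ⊕ Fin m → F, v ≠ 0 → x * tr e v = tr e v * x) : x = 1 := by
  have := A.normal
  have := A.simple
  let S : Set G := {g | ∃ v : Fin m ⊕ Fin m → F, v ≠ 0 ∧ g = tr e v}
  have hST : normalClosure S ≤ T := by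
    apply normalClosure_le_normal
    rintro _ ⟨v, -, rfl⟩
    exact tau_mem e _
  have hTS : T ≤ normalClosure S := by
    have h1 : ((normalClosure S).subgroupOf T).Normal := inferInstance
    rcases h1.eq_bot_or_eq_top with h2 | h2
    · exfalso
      have : Nonempty (Fin m) := ⟨⟨0, by omega⟩⟩
      obtain ⟨v, hv⟩ := exists_ne (0 : Fin m ⊕ Fin m → F)
      apply tr_ne_one e hF (by omega) hv
      have h3 : (⟨tr e v, tau_mem e _⟩ : T) ∈ (normalClosure S).subgroupOf T :=
        subset_normalClosure ⟨v, hv, rfl⟩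
      rw [h2, Subgroup.mem_bot] at h3
      exact congrArg Subtype.val h3
    · exact subgroupOf_eq_top.1 h2
  have hc : normalClosure S ≤ centralizer {x} := by
    unfold normalClosure
    rw [closure_le]
    intro y hy
    obtain ⟨z, ⟨v, hv, rfl⟩, hz⟩ := Group.mem_conjugatesOfSet_iff.1 hy
    obtain ⟨g, rfl⟩ := isConj_iff.1 hz
    obtain ⟨w, hw, hg⟩ := exists_conj e hF hm g v hv
    rw [hg]
    exact mem_centralizer_singleton_iff.2 (h w hw).symm
  have h1 : x ∈ centralizer (T : Set G) := by
    rw [mem_centralizer_iff]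
    intro t ht
    exact mem_centralizer_singleton_iff.1 (hc (hTS ht))
  rw [A.cent, Subgroup.mem_bot] at h1
  exact h1

/-- transvections commute iff they are orthogonal -/
theorem comm_iff (hF : Fintype.card F = 2) (hm : 3 ≤ m) {u v : Fin m ⊕ Fin m → F} (hu : u ≠ 0) (hv : v ≠ 0) :
    tr e u * tr e v * (tr e u)⁻¹ = tr e v ↔ sympForm m F v u = 0 := by
  have h1 : tr e u * tr e v * (tr e u)⁻¹ = tr e (transv u 1 • v) := tau_conj e (transv u 1) v
  rw [h1, transv_smul, one_mul]
  constructor
  · intro h
    have h2 : v + sympForm m F v u • u ≠ 0 := by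
      have : transv u (1 : F) • v ≠ 0 := smul_ne_zero' _ hv
      rwa [transv_smul, one_mul] at this
    have h3 := tr_injective e hF (by omega) h2 hv h
    have h4 : sympForm m F v u • u = 0 := by
      have := h3
      rwa [add_eq_left] at this
    rcases smul_eq_zero.1 h4 with h5 | h5
    · exact h5
    · exact absurd h5 hu
  · intro h
    rw [h, zero_smul, add_zero]

include e in
theorem not_sys (S : Sys N) (A : AS G X T) (hF : Fintype.card F = 2) (hm : 3 ≤ m)
    (hn : Nat.card X = 2 ^ (m - 1) * (2 ^ m + 1) ∨ Nat.card X = 2 ^ (m - 1) * (2 ^ m - 1)) : False := by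
  have := A.normal
  have := A.finG
  have := A.finΩ
  have := A.faithful
  have h2 := F_cases (F := F) hF
  choose Q hQ1 hQ2 hQ3 using main e A hF hm hn
  have q : ∀ a, Qd m (Q a) := fun a => ⟨h2, hm, hQ1 a⟩
  have hfix : ∀ a (v : Fin m ⊕ Fin m → F), v ≠ 0 → (tr e v • a = a ↔ Q a v = 1) := hQ2
  have hs := symm' (F := F) (m := m) h2
  -- the relation is universal
  have key : ∀ a, ∀ v w, Q a v = 1 → Q a w = 1 → tr e v * (tr e w)⁻¹ ∈ N a := by
    intro a
    obtain ⟨b, hb⟩ : ∃ b : X, b ≠ a := by
      have := A.nontrivialΩ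
      exact exists_ne a
    obtain ⟨x, hx, hx1⟩ := S.exists_ne_one hb.symm
    have hxN : x ∈ N a := hx.1
    have hxa : x • a = a := S.fix a x hxN
    choose! σ hσ hg using exists_conj e hF hm x
    have hσQ : ∀ v, Q a v = 1 → Q a (σ v) = 1 := by
      intro v hv
      have hv0 := (q a).ne_zero hv
      have h1 := (hfix a v hv0).2 hv
      rw [← hfix a _ (hσ v hv0), ← hg v hv0, mul_smul, mul_smul, inv_smul_eq_iff.2 hxa.symm, h1, hxa]
    obtain ⟨v, hv, hvσ⟩ : ∃ v, Q a v = 1 ∧ σ v ≠ v := by
      by_contra hcon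
      push Not at hcon
      apply hx1
      apply eq_one e A hF hm
      -- `σ` fixes every vector
      have hall : ∀ u, u ≠ 0 → σ u = u := by
        intro u hu
        by_contra hne
        have hz : σ u + u ≠ 0 := by
          intro h0
          apply hne
          rw [← add_zero (σ u), ← vadd_self h2 u, ← add_assoc, h0, zero_add]
        obtain ⟨v, hv1, hv⟩ := (q a).exists_y1 hz 1
        rw [sympForm_add_left] at hv1
        have hv0 := (q a).ne_zero hv
        have h3 : sympForm m F (σ u) v = 0 ↔ sympForm m F u v = 0 := by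
          rw [← comm_iff e hF hm hv0 (hσ u hu), ← comm_iff e hF hm hv0 hu]
          have h4 := hg v hv0
          rw [hcon v hv] at h4
          rw [← hg u hu]
          constructor
          · intro h5
            have h6 : x⁻¹ * (tr e v * (x * tr e u * x⁻¹) * (tr e v)⁻¹) * x = x⁻¹ * (x * tr e u * x⁻¹) * x := by rw [h5]
            have h7 : x⁻¹ * (tr e v * (x * tr e u * x⁻¹) * (tr e v)⁻¹) * x =
              (x⁻¹ * tr e v * x) * tr e u * (x⁻¹ * tr e v * x)⁻¹ := by group
            have h8 : x⁻¹ * tr e v * x = tr e v := by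
              conv_lhs => rw [← h4]
              group
            rw [h7, h8] at h6
            rw [h6]
            group
          · intro h5
            have h7 : tr e v * (x * tr e u * x⁻¹) * (tr e v)⁻¹ =
              x * ((x⁻¹ * tr e v * x) * tr e u * (x⁻¹ * tr e v * x)⁻¹) * x⁻¹ := by group
            have h8 : x⁻¹ * tr e v * x = tr e v := by
              conv_lhs => rw [← h4]
              group
            rw [h7, h8, h5]
        rcases h2 (sympForm m F (σ u) v) with h5 | h5
        · rw [h5, h3.1 h5, add_zero] at hv1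
          exact zero_ne_one hv1
        · have h6 : sympForm m F u v = 1 := by
            refine (h2 _).resolve_left fun h6 => ?_
            rw [h3.2 h6] at h5
            exact zero_ne_one h5
          rw [h5, h6, one_add_one h2] at hv1
          exact zero_ne_one hv1
      intro v hv
      have h3 := hg v hv
      rw [hall v hv] at h3
      exact mul_inv_eq_iff_eq_mul.1 h3
    have hv0 := (q a).ne_zero hv
    have hva : tr e v • a = a := (hfix a v hv0).2 hv
    have hR : tr e (σ v) * (tr e v)⁻¹ ∈ N a := by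
      rw [← hg v hv0]
      have h3 : x * tr e v * x⁻¹ * (tr e v)⁻¹ = x * (tr e v * x⁻¹ * (tr e v)⁻¹) := by group
      rw [h3]
      exact mul_mem hxN (S.mem_stab_conj (inv_mem hxN) hva)
    refine (q a).univ (R := fun v w => tr e v * (tr e w)⁻¹ ∈ N a) ?_ ?_ ?_ ?_ (hσQ v hv) hv hvσ hR
    · intro v _
      rw [mul_inv_cancel]
      exact one_mem _
    · intro v w _ _ h
      have := inv_mem h
      rwa [mul_inv_rev, inv_inv] at this
    · intro u v w _ _ _ h h'
      have := mul_mem h h'
      have h3 : tr e u * (tr e v)⁻¹ * (tr e v * (tr e w)⁻¹) = tr e u * (tr e w)⁻¹ := by group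
      rwa [h3] at this
    · intro u v w hu hv hw huv huw h
      have hu0 := (q a).ne_zero hu
      have hua : tr e u • a = a := (hfix a u hu0).2 hu
      have h3 := S.mem_stab_conj h hua
      have h4 : tr e u * (tr e v * (tr e w)⁻¹) * (tr e u)⁻¹ =
          tr e u * tr e v * (tr e u)⁻¹ * (tr e u * tr e w * (tr e u)⁻¹)⁻¹ := by group
      have h5 : ∀ z, tr e u * tr e z * (tr e u)⁻¹ = tr e (transv u 1 • z) := fun z => tau_conj e (transv u 1) z
      rw [h4, h5, h5, transv_smul, transv_smul, one_mul, one_mul, hs v u, hs w u, huv, huw, one_smul, zero_smul,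
        add_zero, add_comm v u] at h3
      exact h3
  obtain ⟨a, b, hab, -⟩ := S.nsr
  obtain ⟨v, w, hvw, h3, h4, h5, h6⟩ := (q a).exists_two (q b)
  have h7 := S.ti a b hab _ (key a v w h3 h4) (key b v w h5 h6)
  rw [mul_inv_eq_one] at h7
  exact hvw (tr_injective e hF (by omega) ((q a).ne_zero h3) ((q a).ne_zero h4) h7)

end Cfsg.Agent.H88.SysSp
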