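import Cfsg.Agent.H88.SysRows
import Cfsg.Agent.H88.SysSp
import Cfsg.Agent.H88.SysAlt
import Cfsg.Agent.H88.RkPsl
import Cfsg.Agent.H88.RkSz
import Cfsg.Agent.H88.RkPsu
import Cfsg.Agent.H88.RkRee
import Cfsg.Agent.H88.CentHS
import Cfsg.Agent.H57.TTOut
import Cfsg.Agent.H436.TTPsl2
import Cfsg.Agent.S0243
import Cfsg.Agent.S2119

/-!
# 2-transitive groups of known type with a non-semiregular TI family (helper88)

`concl` : the socle is `PSL_n(F)`, `n ≥ 3`, on the points of the projective space.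
-/

set_option autoImplicit false

namespace Cfsg.Agent.H88.Concl

open Subgroup MulAction Cfsg.Agent.H360.ON
open Cfsg Cfsg.Agent.H384.TwoTrans

universe u v

/-- the facts about the sporadic groups used below -/
structure Facts : Prop where
  m11 : Nat.card ↥Spor.M11 = 7920
  m12 : Nat.card ↥Spor.M12 = 95040
  m22 : Nat.card ↥Spor.M22 = 443520
  m23 : Nat.card ↥Spor.M23 = 10200960
  m24 : Nat.card ↥Cfsg.M24 = 244823040
  hs : Nat.card ↥Spor.HS = 44352000
  co3 : Nat.card ↥Spor.Co3 = 495766656000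
  out_m11 : Nat.card (Cfsg.Out ↥Spor.M11) = 1
  out_m12 : Nat.card (Cfsg.Out ↥Spor.M12) = 2
  out_m22 : Nat.card (Cfsg.Out ↥Spor.M22) = 2
  out_m23 : Nat.card (Cfsg.Out ↥Spor.M23) = 1
  out_m24 : Nat.card (Cfsg.Out ↥Cfsg.M24) = 1
  out_hs : Nat.card (Cfsg.Out ↥Spor.HS) = 2
  out_co3 : Nat.card (Cfsg.Out ↥Spor.Co3) = 1
  co3_five : ∀ x : ↥Spor.Co3, orderOf x = 5 →
    Nat.card (centralizer ({x} : Set ↥Spor.Co3)) ∣ 2 ^ 5 * 3 * 5 ^ 3

variable {G : Type u} {X : Type v} [Group G] [MulAction G X] {T : Subgroup G} {N : X → Subgroup G}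

theorem card_dvd_aut (A : AS G X T) : Nat.card G ∣ Nat.card (MulAut T) := by
  have := A.normal
  have := A.finG
  have : Finite (MulAut T) := inferInstance
  exact Subgroup.card_dvd_of_injective _ (H57.TTOut.conj_injective A.cent)

theorem card_dvd_of_equiv (A : AS G X T) {Y : Type*} [Group Y] (e : T ≃* Y) : Nat.card G ∣ Nat.card (MulAut Y) := by
  rw [← Nat.card_congr (MulAut.congr e).toEquiv]
  exact card_dvd_aut A

theorem card_psl {F : Type*} [Field F] [Fintype F] {q n c : ℕ} (hF : Fintype.card F = q) (hn : 2 ≤ n)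
    (hc : ∏ i : Fin n, (q ^ n - q ^ (i : ℕ)) = (Nat.gcd n (q - 1) * (q - 1)) * c)
    (h0 : 0 < Nat.gcd n (q - 1) * (q - 1)) : Nat.card (Matrix.ProjectiveSpecialLinearGroup (Fin n) F) = c := by
  have h := S0243.result hF n hn
  rw [hc, ← mul_assoc] at h
  exact Nat.eq_of_mul_eq_mul_left h0 h

theorem two_mul_card_alt {n : ℕ} (hn : 2 ≤ n) (e : T ≃* ↥(alternatingGroup (Fin n))) :
    2 * Nat.card T = n.factorial := by
  have : Nontrivial (Fin n) := Fin.nontrivial_iff_two_le.2 hn
  rw [Nat.card_congr e.toEquiv, two_mul_nat_card_alternatingGroup, Nat.card_perm, Nat.card_eq_fintype_card,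
    Fintype.card_fin]

theorem card_aut_alt {n : ℕ} (hn : 4 ≤ n) (h6 : n ≠ 6) :
    Nat.card (MulAut ↥(alternatingGroup (Fin n))) = n.factorial := by
  rw [← Nat.card_congr (Equiv.ofBijective _ (S2119.result n hn h6)), Nat.card_perm, Nat.card_eq_fintype_card,
    Fintype.card_fin]

theorem card_aut_psl {F : Type*} [Field F] [Fintype F] {p f c : ℕ} (hp : p.Prime) (hF : Fintype.card F = p ^ f)
    (hf : 1 ≤ f) (h4 : 4 ≤ p ^ f) (hc : Nat.card (Matrix.ProjectiveSpecialLinearGroup (Fin 2) F) = c) :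
    Nat.card (MulAut (Matrix.ProjectiveSpecialLinearGroup (Fin 2) F)) = Nat.gcd 2 (p ^ f - 1) * f * c := by
  have : Fact p.Prime := ⟨hp⟩
  rw [H436.TT.card_mulAut p f hF hf (by rw [hF]; exact h4), hc, hF]

/-- **The conclusion.** -/
theorem concl (Fc : Facts) (S : Sys N) (A : AS G X T) (K : Known2 T (Nat.card X)) :
    ∃ (L : Subgroup G) (F : Type) (_ : Field F) (_ : Fintype F) (n : ℕ), 3 ≤ n ∧ L.Normal ∧
      Subgroup.centralizer (L : Set G) = ⊥ ∧ Nonempty (↥L ≃* Matrix.ProjectiveSpecialLinearGroup (Fin n) F) ∧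
      Nat.card X * (Fintype.card F - 1) = Fintype.card F ^ n - 1 := by
  have hN := A.normal
  have htr := A.transitive
  have := A.finG
  have := A.finΩ
  have := A.faithful
  have := A.simple
  have hna : ¬ ∀ x y : T, x * y = y * x := fun h => A.nonab ⟨⟨h⟩⟩
  generalize hX : Nat.card X = n at K
  cases K with
  | alt _ hn e =>
    obtain ⟨e⟩ := e
    exfalso
    have h2 := two_mul_card_alt (by omega) e
    rcases Nat.lt_or_ge n 6 with h6 | h6
    · have h5 : n = 5 := by omega
      subst h5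
      have h3 : Nat.card T = 60 := by
        have : Nat.factorial 5 = 120 := rfl
        omega
      refine SysRows.alt5 S hX h3 ?_
      rw [h3]
      have h4 := card_dvd_of_equiv A e
      rw [card_aut_alt (by norm_num) (by norm_num)] at h4
      exact h4
    · exact SysAlt.not_sys S (T := T) (by rw [hX]; exact h6) (by rw [hX]; exact h2)
  | psl F d _ hd hd2 e hn =>
    rcases Nat.lt_or_ge d 3 with h3 | h3
    · exfalso
      have hd' : d = 2 := by omega
      subst hd'
      obtain ⟨e⟩ := e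
      obtain ⟨p, H, S', Φ, w, R, hc⟩ := RkPsl.exists_rk e
      refine R.not_sys S hN htr ?_
      rw [hX, hc]
      have h4 := hd2 rfl
      have h5 : Fintype.card F ^ 2 - 1 = (Fintype.card F + 1) * (Fintype.card F - 1) := by
        have := Nat.sq_sub_sq (Fintype.card F) 1
        rwa [one_pow] at this
      rw [h5] at hn
      exact Nat.eq_of_mul_eq_mul_right (by omega) hn
    · exact ⟨T, F, inferInstance, inferInstance, d, h3, hN, A.cent, e, hn⟩
  | sp F m _ hF hm e hn =>
    obtain ⟨e⟩ := e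
    exact (SysSp.not_sys e S A hF hm (by rw [hX]; exact hn)).elim
  | psu F q _ hq hF e hn =>
    obtain ⟨e⟩ := e
    obtain ⟨p, H, S', Φ, w, R, hc⟩ := RkPsu.exists_rk hF hq e
    exact (R.not_sys S hN htr (by rw [hX, hc, hn])).elim
  | sz F m _ hm hF e hn =>
    obtain ⟨e⟩ := e
    obtain ⟨p, H, S', Φ, w, R, hc⟩ := RkSz.exists_rk hF e
    exact (R.not_sys S hN htr (by rw [hX, hc, hn])).elim
  | ree K m _ hm hK e hn =>
    obtain ⟨e⟩ := e
    obtain ⟨p, H, S', Φ, w, R, hc⟩ := RkRee.exists_rk hK hm e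
    exact (R.not_sys S hN htr (by rw [hX, hc, hn])).elim
  | psl2_8 F hF e =>
    obtain ⟨e⟩ := e
    have h1 := card_psl (F := F) (n := 2) (c := 504) hF le_rfl (by decide) (by decide)
    refine (SysRows.psl28 S hX (by rw [Nat.card_congr e.toEquiv, h1]) ?_).elim
    rw [Nat.card_congr e.toEquiv, h1]
    have h2 := card_dvd_of_equiv A e
    rw [card_aut_psl (p := 2) (f := 3) Nat.prime_two (by rw [hF]; norm_num) (by norm_num) (by norm_num) h1] at h2
    exact h2
  | psl2_9 F hF e =>
    obtain ⟨e⟩ := e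
    have h1 := card_psl (F := F) (n := 2) (c := 360) hF le_rfl (by decide) (by decide)
    refine (SysAlt.not_sys S (T := T) (by rw [hX]) ?_).elim
    rw [hX, Nat.card_congr e.toEquiv, h1]
    rfl
  | psl2_11 F hF e =>
    obtain ⟨e⟩ := e
    have h1 := card_psl (F := F) (n := 2) (c := 660) hF le_rfl (by decide) (by decide)
    refine (SysRows.psl211 S hX (by rw [Nat.card_congr e.toEquiv, h1]) ?_).elim
    rw [Nat.card_congr e.toEquiv, h1]
    have h2 := card_dvd_of_equiv A e
    rw [card_aut_psl (p := 11) (f := 1) (by norm_num) (by rw [hF]; norm_num) (by norm_num) (by norm_num) h1] at h2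
    exact h2
  | psl4_2 F hF e =>
    obtain ⟨e⟩ := e
    have h1 := card_psl (F := F) (n := 4) (c := 20160) hF (by norm_num) (by decide) (by decide)
    refine (SysAlt.not_sys S (T := T) (by rw [hX]; norm_num) ?_).elim
    rw [hX, Nat.card_congr e.toEquiv, h1]
    rfl
  | a7 e =>
    obtain ⟨e⟩ := e
    have h2 := two_mul_card_alt (by omega) e
    have h3 : Nat.card T = 2520 := by
      have : Nat.factorial 7 = 5040 := rfl
      omega
    refine (SysRows.a7 S hX h3 ?_).elim
    rw [h3]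
    have h4 := card_dvd_of_equiv A e
    rw [card_aut_alt (by norm_num) (by norm_num)] at h4
    exact h4
  | m11 h =>
    obtain ⟨e⟩ := h
    have h1 := H57.TTOut.AS.card_dvd A e
    rw [Fc.out_m11] at h1
    exact (SysRows.m11 S hX (by rw [Nat.card_congr e.toEquiv, Fc.m11]) h1).elim
  | m11' h =>
    obtain ⟨e⟩ := h
    have h1 := H57.TTOut.AS.card_dvd A e
    rw [Fc.out_m11] at h1
    exact (SysRows.m11' S hX (by rw [Nat.card_congr e.toEquiv, Fc.m11]) h1).elim
  | m12 h =>
    obtain ⟨e⟩ := h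
    have h1 := H57.TTOut.AS.card_dvd A e
    rw [Fc.out_m12] at h1
    exact (SysRows.m12 S hX (by rw [Nat.card_congr e.toEquiv, Fc.m12]) h1).elim
  | m22 h =>
    obtain ⟨e⟩ := h
    have h1 := H57.TTOut.AS.card_dvd A e
    rw [Fc.out_m22] at h1
    exact (SysRows.m22 S hN hna hX (by rw [Nat.card_congr e.toEquiv, Fc.m22]) h1).elim
  | m23 h =>
    obtain ⟨e⟩ := h
    have h1 := H57.TTOut.AS.card_dvd A e
    rw [Fc.out_m23] at h1
    exact (SysRows.m23 S hX (by rw [Nat.card_congr e.toEquiv, Fc.m23]) h1).elim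
  | m24 h =>
    obtain ⟨e⟩ := h
    have h1 := H57.TTOut.AS.card_dvd A e
    rw [Fc.out_m24] at h1
    exact (SysRows.m24 S hX (by rw [Nat.card_congr e.toEquiv, Fc.m24]) h1).elim
  | hs h =>
    obtain ⟨e⟩ := h
    have h1 := H57.TTOut.AS.card_dvd A e
    rw [Fc.out_hs] at h1
    exact (SysRows.hs S hN (CentHS.not_dvd ⟨e⟩) hX (by rw [Nat.card_congr e.toEquiv, Fc.hs]) h1).elim
  | co3 h =>
    obtain ⟨e⟩ := h
    have h1 := H57.TTOut.AS.card_dvd A e
    rw [Fc.out_co3] at h1
    refine (SysRows.co3 S hN ?_ hX (by rw [Nat.card_congr e.toEquiv, Fc.co3]) h1).elim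
    intro x hx
    have h2 := Fc.co3_five (e x) (by rw [← hx]; exact orderOf_injective e.toMonoidHom e.injective x)
    have : Finite ↥Spor.Co3 := Nat.finite_of_card_ne_zero (by rw [Fc.co3]; norm_num)
    refine dvd_trans ?_ h2
    let f : centralizer ({x} : Set T) →* centralizer ({e x} : Set ↥Spor.Co3) :=
      { toFun := fun g => ⟨e g.1, mem_centralizer_singleton_iff.2 (by
          rw [← map_mul, ← map_mul, mem_centralizer_singleton_iff.1 g.2])⟩
        map_one' := Subtype.ext (by simp)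
        map_mul' := fun _ _ => Subtype.ext (by simp) }
    apply card_dvd_of_injective f
    intro g g' hg
    exact Subtype.ext (e.injective (congrArg Subtype.val hg))

end Cfsg.Agent.H88.Concl
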