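import Mathlib
import Cfsg.Agent.H970.StabK

/-!
# Fixed points of elements generating a Sylow subgroup (helper88)

* `fix_dvd` : in a transitive action the normaliser of a Sylow subgroup `⟨y⟩` of prime order is transitive on its fixed
  points, so their number divides `|N(⟨y⟩)|`;
* `fix_modEq` : the fixed points of `y` modulo `r` for a commuting element of prime order `r`.
-/

set_option autoImplicit false

namespace Cfsg.Agent.H88.FixSyl

open Subgroup MulAction

variable {G X : Type*} [Group G] [MulAction G X] [Finite G]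

theorem exists_normalizer (hX : IsPretransitive G X) {p : ℕ} (hp : p.Prime) {P : Subgroup G} (hP : Nat.card P = p)
    (hp2 : ¬ p ^ 2 ∣ Nat.card G) {a b : X} (ha : ∀ y ∈ P, y • a = a) (hb : ∀ y ∈ P, y • b = b) :
    ∃ n ∈ normalizer (P : Set G), n • a = b := by
  have hf : Fact p.Prime := ⟨hp⟩
  obtain ⟨g, hg⟩ := hX.exists_smul_eq a b
  have hPb : P ≤ stabilizer G b := fun y hy => hb y hy
  have hQb : P.map (MulAut.conj g).toMonoidHom ≤ stabilizer G b := by
    rintro _ ⟨y, hy, rfl⟩
    change (g * y * g⁻¹) • b = b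
    rw [mul_smul, mul_smul, ← hg, inv_smul_smul, ha y hy]
  have hp2' : ¬ p ^ 2 ∣ Nat.card (stabilizer G b) := fun h => hp2 (h.trans (card_subgroup_dvd_card _))
  have h1 : Nat.card (P.subgroupOf (stabilizer G b)) = p := by
    rw [Nat.card_congr (subgroupOfEquivOfLe hPb).toEquiv, hP]
  have h2 : Nat.card ((P.map (MulAut.conj g).toMonoidHom).subgroupOf (stabilizer G b)) = p := by
    rw [Nat.card_congr (subgroupOfEquivOfLe hQb).toEquiv,
      ← Nat.card_congr (P.equivMapOfInjective _ (MulAut.conj g).injective).toEquiv, hP]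
  obtain ⟨S1, hS1⟩ := H970.StabK.exists_sylow h1 hp2'
  obtain ⟨S2, hS2⟩ := H970.StabK.exists_sylow h2 hp2'
  obtain ⟨h, hh⟩ := exists_smul_eq (stabilizer G b) S2 S1
  have key : ∀ y ∈ P, (h : G) * (g * y * g⁻¹) * (h : G)⁻¹ ∈ P := by
    intro y hy
    have h3 : (⟨g * y * g⁻¹, hQb ⟨y, hy, rfl⟩⟩ : stabilizer G b) ∈ (S2 : Subgroup (stabilizer G b)) := by
      rw [hS2]
      exact ⟨y, hy, rfl⟩
    have h4 : h * (⟨g * y * g⁻¹, hQb ⟨y, hy, rfl⟩⟩ : stabilizer G b) * h⁻¹ ∈ (S1 : Subgroup (stabilizer G b)) := by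
      rw [← hh]
      exact ⟨_, h3, rfl⟩
    rw [hS1] at h4
    exact h4
  refine ⟨h * g, ?_, ?_⟩
  · rw [mem_normalizer_iff_map_conj_eq]
    apply Subgroup.eq_of_le_of_card_ge
    · rintro _ ⟨y, hy, rfl⟩
      have h3 := key y hy
      have h4 : (h : G) * (g * y * g⁻¹) * (h : G)⁻¹ = (MulAut.conj ((h : G) * g)) y := by
        rw [MulAut.conj_apply]
        group
      rw [h4] at h3
      exact h3
    · exact (Nat.card_congr (P.equivMapOfInjective _ (MulAut.conj ((h : G) * g)).injective).toEquiv).le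
  · rw [mul_smul, hg]
    exact h.2

theorem fix_dvd (hX : IsPretransitive G X) {p : ℕ} (hp : p.Prime) {y : G} (hy : orderOf y = p)
    (hp2 : ¬ p ^ 2 ∣ Nat.card G) (hne : ∃ a : X, y • a = a) :
    Nat.card {a : X // y • a = a} ∣ Nat.card (normalizer ((zpowers y : Subgroup G) : Set G)) := by
  obtain ⟨a, ha⟩ := hne
  have hP : Nat.card (zpowers y) = p := by rw [Nat.card_zpowers, hy]
  have hfix : ∀ b : X, y • b = b ↔ ∀ z ∈ zpowers y, z • b = b := by
    intro b
    constructor
    · intro hb
      have : zpowers y ≤ stabilizer G b := by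
        rw [zpowers_le]
        exact hb
      exact fun z hz => this hz
    · intro h
      exact h y (mem_zpowers y)
  have h1 : (orbit (normalizer ((zpowers y : Subgroup G) : Set G)) a) = {b : X | y • b = b} := by
    ext b
    constructor
    · rintro ⟨⟨n, hn⟩, rfl⟩
      change y • n • a = n • a
      have h2 : n⁻¹ * y * n ∈ zpowers y := by
        have h3 := (mem_normalizer_iff.1 (inv_mem hn) y).1 (mem_zpowers y)
        rwa [inv_inv] at h3
      have h3 := (hfix a).1 ha _ h2
      rw [mul_smul, mul_smul, inv_smul_eq_iff] at h3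
      exact h3
    · intro hb
      obtain ⟨n, hn, hnb⟩ := exists_normalizer hX hp hP hp2 ((hfix a).1 ha) ((hfix b).1 hb)
      exact ⟨⟨n, hn⟩, hnb⟩
  have h2 : Nat.card {a : X // y • a = a} = (orbit (normalizer ((zpowers y : Subgroup G) : Set G)) a).ncard := by
    rw [h1]
    rfl
  rw [h2, ← Nat.card_coe_set_eq, Nat.card_congr (orbitEquivQuotientStabilizer _ a)]
  exact card_quotient_dvd_card _

omit [Finite G] in
theorem fix_modEq [Finite X] {x y : G} {r : ℕ} (hr : r.Prime) (hx : x ^ r = 1) (hc : x * y = y * x) :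
    Nat.card {a : X // y • a = a} ≡ Nat.card {a : X // y • a = a ∧ x • a = a} [MOD r] := by
  classical
  have hf : Fact r.Prime := ⟨hr⟩
  have : Fintype X := Fintype.ofFinite X
  let f : Function.End {a : X // y • a = a} := fun a => ⟨x • a.1, by rw [← mul_smul, ← hc, mul_smul, a.2]⟩
  have hfp : ∀ n : ℕ, ∀ a, ((f ^ n) a).1 = x ^ n • a.1 := by
    intro n
    induction n with
    | zero =>
      intro a
      rw [pow_zero, pow_zero, one_smul]
      rfl
    | succ n ih =>
      intro a
      rw [pow_succ, pow_succ, mul_smul]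
      exact ih (f a)
  have hf1 : f ^ r ^ 1 = 1 := by
    funext a
    apply Subtype.ext
    rw [hfp, pow_one, hx, one_smul]
    rfl
  have h1 := Equiv.Perm.card_fixedPoints_modEq hf1
  rw [Nat.card_eq_fintype_card]
  refine h1.trans ?_
  have h2 : Fintype.card f.fixedPoints = Nat.card {a : X // y • a = a ∧ x • a = a} := by
    rw [← Nat.card_eq_fintype_card]
    refine Nat.card_congr
      { toFun := fun a => ⟨a.1.1, a.1.2, congrArg Subtype.val a.2⟩
        invFun := fun a => ⟨⟨a.1, a.2.1⟩, Subtype.ext a.2.2⟩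
        left_inv := fun _ => rfl
        right_inv := fun _ => rfl }
  rw [h2]

end Cfsg.Agent.H88.FixSyl
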