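import Mathlib

/-!
# Automorphisms of the Higman-Sims graph: an element of order 7 does not commute with an element of order 5 (helper88)
-/

set_option autoImplicit false

namespace Cfsg.Agent.H88.Graph22

open MulAction

/-- fixed points on an invariant subset, modulo a prime -/
theorem modEq {G X : Type*} [Group G] [MulAction G X] [Finite X] {x : G} {r : ℕ} (hr : r.Prime) (hx : x ^ r = 1)
    {q : X → Prop} (hq : ∀ v, q v → q (x • v)) :
    Nat.card {a : X // q a} ≡ Nat.card {a : X // q a ∧ x • a = a} [MOD r] := by
  classical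
  have hf : Fact r.Prime := ⟨hr⟩
  have : Fintype X := Fintype.ofFinite X
  let f : Function.End {a : X // q a} := fun a => ⟨x • a.1, hq _ a.2⟩
  have hfp : ∀ n : ℕ, ∀ a, ((f ^ n) a).1 = x ^ n • a.1 := by
    intro n
    induction n with
    | zero =>
      intro a
      rw [pow_zero, pow_zero, one_smul]
      rfl
    | succ n ih =>
      intro a
      rw [pow_succ, pow_succ, mul_smul]
      exact ih (f a)
  have hf1 : f ^ r ^ 1 = 1 := by
    funext a
    apply Subtype.ext
    rw [hfp, pow_one, hx, one_smul]
    rfl
  have h1 := Equiv.Perm.card_fixedPoints_modEq hf1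
  rw [Nat.card_eq_fintype_card]
  refine h1.trans ?_
  have h2 : Fintype.card f.fixedPoints = Nat.card {a : X // q a ∧ x • a = a} := by
    rw [← Nat.card_eq_fintype_card]
    refine Nat.card_congr
      { toFun := fun a => ⟨a.1.1, a.1.2, congrArg Subtype.val a.2⟩
        invFun := fun a => ⟨⟨a.1, a.2.1⟩, Subtype.ext a.2.2⟩
        left_inv := fun _ => rfl
        right_inv := fun _ => rfl }
  rw [h2]

/-- the data -/
structure Dat {G X : Type*} [Group G] [MulAction G X] (R : X → X → Prop) : Prop where
  symm : ∀ v w, R v w → R w v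
  inv : ∀ (g : G) (v w : X), R v w → R (g • v) (g • w)
  irr : ∀ v, ¬ R v v
  card : Nat.card X = 100
  deg : ∀ v, Nat.card {w : X // R v w} = 22
  tri : ∀ v w u, R v w → R v u → R w u → False
  six : ∀ v w, v ≠ w → ¬ R v w → Nat.card {u : X // R v u ∧ R w u} = 6
  seven : ∀ x : G, orderOf x = 7 → ∀ v w, v ≠ w → ¬ R v w → x • v = v → x • w = w → False

variable {G X : Type*} [Group G] [MulAction G X] [Finite X] [FaithfulSMul G X] {R : X → X → Prop}

theorem Dat.not_comm (D : Dat (G := G) R) {x y : G} (hx : orderOf x = 7) (hy : orderOf y = 5) (hxy : x * y = y * x) :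
    False := by
  have hx7 : x ^ 7 = 1 := by rw [← hx]; exact pow_orderOf_eq_one x
  have hy5 : y ^ 5 = 1 := by rw [← hy]; exact pow_orderOf_eq_one y
  have hcomm : ∀ v : X, x • y • v = y • x • v := fun v => by rw [← mul_smul, hxy, mul_smul]
  -- a fixed edge
  have h2 := modEq (X := X) (q := fun _ => True) (by norm_num : Nat.Prime 7) hx7 (fun _ _ => trivial)
  have e1 : Nat.card {a : X // True} = 100 := by
    rw [← D.card]
    exact Nat.card_congr (Equiv.subtypeUnivEquiv fun _ => trivial)
  rw [e1] at h2
  obtain ⟨⟨a, ta, ha⟩, ⟨b, tb, hb⟩, hab⟩ : ∃ s t : {a : X // True ∧ x • a = a}, s ≠ t := by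
    have : 1 < Nat.card {a : X // True ∧ x • a = a} := by
      have h3 : 100 % 7 = Nat.card {a : X // True ∧ x • a = a} % 7 := h2
      omega
    have h4 := (Finite.one_lt_card_iff_nontrivial (α := {a : X // True ∧ x • a = a})).1 this
    exact exists_pair_ne _
  have hab : a ≠ b := fun h => hab (Subtype.ext h)
  have hclique : ∀ v w : X, v ≠ w → x • v = v → x • w = w → R v w := by
    intro v w hvw hv hw
    by_contra h
    exact D.seven x hx v w hvw h hv hw
  have hRab := hclique a b hab ha hb
  have honly : ∀ v : X, x • v = v → v = a ∨ v = b := by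
    intro v hv
    by_contra hcon
    push Not at hcon
    exact D.tri a b v hRab (hclique a v hcon.1.symm ha hv) (hclique b v hcon.2.symm hb hv)
  -- `y` fixes `a` and `b`
  have hyfix : ∀ v : X, x • v = v → y • v = v := by
    have hstep : ∀ v w : X, x • v = v → x • w = w → v ≠ w → (∀ u, x • u = u → u = v ∨ u = w) → y • v = v := by
      intro v w hv hw hvw honly
      have h3 : x • y • v = y • v := by rw [hcomm, hv]
      rcases honly _ h3 with h4 | h4
      · exact h4
      · exfalso
        have h5 : x • y • w = y • w := by rw [hcomm, hw]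
        have h6 : y • w = v := by
          rcases honly _ h5 with h6 | h6
          · exact h6
          · rw [← h4] at h6
            have := smul_left_cancel y h6
            rw [h4] at this
            exact absurd this.symm hvw
        have h7 : y ^ 5 • v = w := by
          rw [pow_succ, mul_smul, h4, pow_succ, mul_smul, h6, pow_succ, mul_smul, h4, pow_succ, mul_smul, h6, pow_one, h4]
        rw [hy5, one_smul] at h7
        exact hvw h7
    intro v hv
    rcases honly v hv with rfl | rfl
    · exact hstep v b hv hb hab honly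
    · exact hstep v a hv ha hab.symm fun u hu => (honly u hu).symm
  -- `y` fixes the neighbours of `a` and `b`
  have hnbr : ∀ v w : X, x • v = v → x • w = w → v ≠ w → (∀ u, x • u = u → u = v ∨ u = w) → ∀ u, R v u → y • u = u := by
    intro v w hv hw hvw honly u hu
    have hRvw := hclique v w hvw hv hw
    have h3 := modEq (X := X) (q := fun u => R v u) (by norm_num : Nat.Prime 5) hy5 (by
      intro u hu
      have := D.inv y v u hu
      rwa [hyfix v hv] at this)
    have h4 := modEq (X := X) (q := fun u => R v u ∧ y • u = u) (by norm_num : Nat.Prime 7) hx7 (by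
      rintro u ⟨hu, hyu⟩
      have := D.inv x v u hu
      rw [hv] at this
      refine ⟨this, ?_⟩
      rw [← hcomm, hyu])
    rw [D.deg] at h3
    have e2 : Nat.card {u : X // (R v u ∧ y • u = u) ∧ x • u = u} = 1 := by
      rw [Nat.card_eq_one_iff_unique]
      have key : ∀ c : {u : X // (R v u ∧ y • u = u) ∧ x • u = u}, c.1 = w := by
        rintro ⟨c, ⟨hc1, hc2⟩, hc3⟩
        rcases honly c hc3 with h5 | h5
        · rw [h5] at hc1
          exact absurd hc1 (D.irr v)
        · exact h5
      refine ⟨⟨fun c d => Subtype.ext ?_⟩, ⟨⟨w, ⟨hRvw, hyfix w hw⟩, hw⟩⟩⟩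
      rw [key c, key d]
    rw [e2] at h4
    have hle : Nat.card {u : X // R v u ∧ y • u = u} ≤ 22 := by
      rw [← D.deg v]
      exact Nat.card_le_card_of_injective (fun c => (⟨c.1, c.2.1⟩ : {u : X // R v u}))
        (fun c d h => Subtype.ext (congrArg (fun t : {u : X // R v u} => t.1) h))
    have h22 : Nat.card {u : X // R v u ∧ y • u = u} = 22 := by
      have h5 : 22 % 5 = Nat.card {u : X // R v u ∧ y • u = u} % 5 := h3
      have h6 : Nat.card {u : X // R v u ∧ y • u = u} % 7 = 1 % 7 := h4
      omega
    have hbij : Function.Bijective (fun c : {u : X // R v u ∧ y • u = u} => (⟨c.1, c.2.1⟩ : {u : X // R v u})) :=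
      (Nat.bijective_iff_injective_and_card _).2
        ⟨fun c d h => Subtype.ext (congrArg (fun t : {u : X // R v u} => t.1) h), by rw [h22, D.deg]⟩
    obtain ⟨c, hc⟩ := hbij.2 ⟨u, hu⟩
    have h7 : c.1 = u := congrArg (fun t : {u : X // R v u} => t.1) hc
    rw [← h7]
    exact c.2.2
  have hna := hnbr a b ha hb hab honly
  have hnb := hnbr b a hb ha hab.symm fun u hu => (honly u hu).symm
  -- `y` is trivial
  have hall : ∀ v : X, y • v = v := by
    intro v
    by_contra hv
    have hva : v ≠ a := by
      rintro rfl
      exact hv (hyfix v ha)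
    have hvb : v ≠ b := by
      rintro rfl
      exact hv (hyfix v hb)
    have hRva : ¬ R v a := fun h => hv (hna v (D.symm _ _ h))
    have hRvb : ¬ R v b := fun h => hv (hnb v (D.symm _ _ h))
    have h3 := D.six v a hva hRva
    have h4 := D.six v b hvb hRvb
    -- the common neighbours of `v` and `y • v`
    have h5 : Nat.card {u : X // R v u ∧ R (y • v) u} ≤ 6 := by
      by_cases hR : R v (y • v)
      · have : IsEmpty {u : X // R v u ∧ R (y • v) u} := ⟨fun u => D.tri v (y • v) u.1 hR u.2.1 u.2.2⟩
        rw [Nat.card_of_isEmpty]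
        omega
      · exact (D.six v (y • v) (Ne.symm hv) hR).le
    let f : {u : X // R v u ∧ R a u} ⊕ {u : X // R v u ∧ R b u} → {u : X // R v u ∧ R (y • v) u} := fun t =>
      match t with
      | Sum.inl u => ⟨u.1, u.2.1, by
          have := D.inv y v u.1 u.2.1
          rwa [hna u.1 u.2.2] at this⟩
      | Sum.inr u => ⟨u.1, u.2.1, by
          have := D.inv y v u.1 u.2.1
          rwa [hnb u.1 u.2.2] at this⟩
    have hf : Function.Injective f := by
      rintro (s | s) (t | t) h
      · have h6 : s.1 = t.1 := congrArg (fun z : {u : X // R v u ∧ R (y • v) u} => z.1) h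
        rw [Subtype.ext h6]
      · have h6 : s.1 = t.1 := congrArg (fun z : {u : X // R v u ∧ R (y • v) u} => z.1) h
        have h7 := s.2.2
        rw [h6] at h7
        exact absurd t.2.2 fun h8 => D.tri a b t.1 hRab h7 h8
      · have h6 : s.1 = t.1 := congrArg (fun z : {u : X // R v u ∧ R (y • v) u} => z.1) h
        have h7 := s.2.2
        rw [h6] at h7
        exact absurd t.2.2 fun h8 => D.tri a b t.1 hRab h8 h7
      · have h6 : s.1 = t.1 := congrArg (fun z : {u : X // R v u ∧ R (y • v) u} => z.1) h
        rw [Subtype.ext h6]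
    have h6 := Nat.card_le_card_of_injective f hf
    rw [Nat.card_sum, h3, h4] at h6
    omega
  have h3 : y = 1 := by
    apply FaithfulSMul.eq_of_smul_eq_smul (α := X)
    intro b
    rw [one_smul, hall]
  rw [h3, orderOf_one] at hy
  norm_num at hy

end Cfsg.Agent.H88.Graph22
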