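import Mathlib
import Cfsg.Agent.H360.ON.Main

/-!
# TI families from a TI normal subgroup of the point stabiliser; no regular abelian normal subgroup (helper88)
-/

set_option autoImplicit false

namespace Cfsg.Agent.H88.SysOf

open Subgroup MulAction Cfsg.Agent.H360.ON

variable {G X : Type*} [Group G] [MulAction G X]

/-- the TI family -/
theorem exists_sys [FaithfulSMul G X] (h2 : IsMultiplyPretransitive G X 2) (x : X) (N₀ : Subgroup G)
    (hle : N₀ ≤ stabilizer G x) (hn : ∀ g ∈ stabilizer G x, ∀ n ∈ N₀, g * n * g⁻¹ ∈ N₀)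
    (hTI : ∀ g : G, N₀.map (MulAut.conj g).toMonoidHom = N₀ ∨ N₀.map (MulAut.conj g).toMonoidHom ⊓ N₀ = ⊥)
    (hnsr : ∃ n ∈ N₀, n ≠ 1 ∧ ∃ y : X, y ≠ x ∧ n • y = y) : Sys (fam N₀ x) := by
  obtain ⟨F, hN⟩ := exists_fam h2 x N₀ hle hn hnsr
  have htr : ∀ a : X, ∃ g : G, g • x = a := by
    intro a
    by_cases hax : a = x
    · exact ⟨1, by rw [one_smul, hax]⟩
    · obtain ⟨-, -, -, y, hyx, -⟩ := hnsr
      obtain ⟨g, hg, -⟩ := F.two x y a x (Ne.symm hyx) hax
      exact ⟨g, hg⟩
  have key : ∀ c : X, c ≠ x → ∀ n ∈ N₀, n ∈ fam N₀ x c → n = 1 := by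
    intro c hc n hn1 hn2
    obtain ⟨h, rfl⟩ := htr c
    have hmap : N₀.map (MulAut.conj h).toMonoidHom = fam N₀ x (h • x) := by
      rw [← F.map_N, hN]
    rcases hTI h with h3 | h3
    · exfalso
      rw [hmap] at h3
      -- all members of the family coincide
      have hall : ∀ d : X, fam N₀ x d = N₀ := by
        intro d
        by_cases hd : d = x
        · rw [hd, hN]
        · obtain ⟨g, hg1, hg2⟩ := F.two x (h • x) x d (Ne.symm hc) (Ne.symm hd)
          rw [← hg2, ← F.map_N, h3]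
          conv_lhs => rw [← hN]
          rw [F.map_N, hg1, hN]
      obtain ⟨m, hm, hm1, -⟩ := hnsr
      apply hm1
      apply FaithfulSMul.eq_of_smul_eq_smul (α := X)
      intro d
      rw [one_smul]
      exact F.fix d m (by rw [hall]; exact hm)
    · have h4 : n ∈ N₀.map (MulAut.conj h).toMonoidHom ⊓ N₀ := ⟨by rw [hmap]; exact hn2, hn1⟩
      rw [h3, Subgroup.mem_bot] at h4
      exact h4
  refine ⟨F, ?_⟩
  intro a b hab n hna hnb
  obtain ⟨g, rfl⟩ := htr a
  have h3 : g⁻¹ * n * g ∈ N₀ := hna g rfl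
  have h4 : g⁻¹ * n * g ∈ fam N₀ x (g⁻¹ • b) := by
    have := F.conj g⁻¹ b n hnb
    rwa [inv_inv] at this
  have h5 : g⁻¹ • b ≠ x := by
    intro h
    apply hab
    rw [← h, smul_inv_smul]
  have h6 := key _ h5 _ h3 h4
  have h7 : n = g * (g⁻¹ * n * g) * g⁻¹ := by group
  rw [h7, h6]
  group

/-- there is no regular normal subgroup -/
theorem not_regular {N : X → Subgroup G} (S : Sys N) {V : Subgroup G} (hV : V.Normal)
    (htr : ∀ x y : X, ∃ n ∈ V, n • x = y) (hreg : ∀ x : X, ∀ n ∈ V, n • x = x → n = 1) : False := by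
  obtain ⟨a, b, hab, z, hz, hz1, hzb⟩ := S.nsr
  obtain ⟨t, ht, hta⟩ := htr a b
  have hza : z • a = a := S.fix a z hz
  have h1 : t⁻¹ * (z * t * z⁻¹) ∈ V := mul_mem (inv_mem ht) (hV.conj_mem t ht z)
  have h2 : (t⁻¹ * (z * t * z⁻¹)) • a = a := by
    rw [mul_smul, mul_smul, mul_smul, inv_smul_eq_iff.2 hza.symm, hta, hzb, ← hta, inv_smul_smul]
  have h3 := hreg a _ h1 h2
  have h4 : t * z = z * t := by
    have h5 : z * t * z⁻¹ = t := by
      rw [inv_mul_eq_one] at h3
      exact h3.symm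
    rw [mul_inv_eq_iff_eq_mul] at h5
    exact h5.symm
  have h5 := S.cent hz hz1 h4
  rw [hta] at h5
  exact hab h5.symm

theorem three_le [Finite X] {N : X → Subgroup G} [FaithfulSMul G X] (S : Sys N) : 3 ≤ Nat.card X := by
  classical
  have : Fintype X := Fintype.ofFinite X
  obtain ⟨a, b, hab, z, hz, hz1, hzb⟩ := S.nsr
  have hza : z • a = a := S.fix a z hz
  by_contra hlt
  apply hz1
  apply FaithfulSMul.eq_of_smul_eq_smul (α := X)
  intro c
  rw [one_smul]
  by_contra hc
  have hca : c ≠ a := by rintro rfl; exact hc hza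
  have hcb : c ≠ b := by rintro rfl; exact hc hzb
  have h1 : ({a, b, c} : Finset X).card = 3 := by
    rw [Finset.card_insert_of_notMem, Finset.card_insert_of_notMem, Finset.card_singleton]
    · rw [Finset.mem_singleton]; exact hcb.symm
    · rw [Finset.mem_insert, Finset.mem_singleton, not_or]
      exact ⟨hab, hca.symm⟩
  have h2 := Finset.card_le_univ ({a, b, c} : Finset X)
  rw [Nat.card_eq_fintype_card] at hlt
  omega

end Cfsg.Agent.H88.SysOf
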