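import Mathlib
import Cfsg.Agent.H88.SysChk
import Cfsg.Agent.H88.CentM22
import Cfsg.Agent.H88.FixSyl

/-!
# The small and sporadic 2-transitive groups have no TI family (helper88)
-/

set_option autoImplicit false
set_option linter.unusedSectionVars false

namespace Cfsg.Agent.H88.SysRows

open Subgroup MulAction Cfsg.Agent.H360.ON SysNum

section basic

variable {G : Type*} [Group G] [Finite G] {T : Subgroup G}

/-- the order of `G` -/
theorem card_cases {o : ℕ} (ho : o = 1 ∨ o.Prime) (h : Nat.card G ∣ Nat.card T * o) :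
    Nat.card G = Nat.card T ∨ Nat.card G = Nat.card T * o := by
  obtain ⟨k, hk⟩ := T.card_subgroup_dvd_card
  have hT : 0 < Nat.card T := Nat.card_pos
  rw [hk] at h ⊢
  have h1 := Nat.dvd_of_mul_dvd_mul_left hT h
  rcases ho with rfl | ho
  · left; rw [Nat.dvd_one.1 h1, mul_one]
  · rcases (Nat.dvd_prime ho).1 h1 with rfl | rfl
    · left; rw [mul_one]
    · right; rfl

omit [Finite G] in
/-- centralisers in `G` and in a normal subgroup -/
theorem card_cent (hT : T.Normal) {r c : ℕ} (hr : r.Prime) (hi : ¬ r ∣ T.index)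
    (hc : ∀ x : T, orderOf x = r → Nat.card (centralizer ({x} : Set T)) ∣ c) (x : G) (hx : orderOf x = r) :
    Nat.card (centralizer ({x} : Set G)) ∣ c * T.index := by
  have hxT : x ∈ T := by
    have h1 : orderOf (QuotientGroup.mk x : G ⧸ T) ∣ r := by
      rw [← hx]
      exact orderOf_map_dvd (QuotientGroup.mk' T) x
    have h2 : orderOf (QuotientGroup.mk x : G ⧸ T) ∣ T.index := by
      rw [Subgroup.index_eq_card]
      exact orderOf_dvd_natCard _
    rcases (Nat.dvd_prime hr).1 h1 with h3 | h3
    · rw [orderOf_eq_one_iff, QuotientGroup.eq_one_iff] at h3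
      exact h3
    · rw [h3] at h2
      exact absurd h2 hi
  have h1 := (T.subgroupOf (centralizer ({x} : Set G))).card_mul_index
  have h2 : T.relIndex (centralizer ({x} : Set G)) ∣ T.index := relIndex_dvd_index_of_normal T _
  have h3 : Nat.card (T.subgroupOf (centralizer ({x} : Set G))) ∣ c := by
    refine dvd_trans ?_ (hc ⟨x, hxT⟩ (by rw [← hx]; exact (Subgroup.orderOf_mk x hxT)))
    let f : T.subgroupOf (centralizer ({x} : Set G)) →* centralizer ({(⟨x, hxT⟩ : T)} : Set T) :=
      { toFun := fun g => ⟨⟨g.1.1, g.2⟩, by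
          rw [mem_centralizer_singleton_iff]
          exact Subtype.ext (mem_centralizer_singleton_iff.1 g.1.2)⟩
        map_one' := rfl
        map_mul' := fun _ _ => rfl }
    apply card_dvd_of_injective f
    intro g g' h
    have h4 := congrArg (fun t : centralizer ({(⟨x, hxT⟩ : T)} : Set T) => ((t : T) : G)) h
    exact Subtype.ext (Subtype.ext h4)
  rw [← h1]
  exact mul_dvd_mul h3 h2

end basic

variable {G X : Type*} [Group G] [MulAction G X] [Finite G] [Finite X] [FaithfulSMul G X] {N : X → Subgroup G}
  {T : Subgroup G}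

theorem alt5 (S : Sys N) (hX : Nat.card X = 5) (hT : Nat.card T = 60) (h : Nat.card G ∣ Nat.card T * 2) : False := by
  rcases card_cases (Or.inr Nat.prime_two) h with h1 | h1 <;> rw [hT] at h1
  · refine not_sys_sq S (gab := 3) hX (by norm_num) (by rw [h1]) (by norm_num) ?_
    intro β hβ hd
    have := Nat.le_of_dvd (by norm_num) hd
    nlinarith
  · refine not_sys_sq S (gab := 6) hX (by norm_num) (by rw [h1]) (by norm_num) ?_
    intro β hβ hd
    have := Nat.le_of_dvd (by norm_num) hd
    have h2 : β = 2 := by nlinarith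
    rw [h2] at hd
    norm_num at hd

theorem psl28 (S : Sys N) (hX : Nat.card X = 28) (hT : Nat.card T = 504) (h : Nat.card G ∣ Nat.card T * 3) : False := by
  rcases card_cases (Or.inr Nat.prime_three) h with h1 | h1 <;> rw [hT] at h1
  · obtain ⟨a, b, hab, -⟩ := S.nsr
    have h3 := card_G S a
    rw [h1, hX, card_stab S hab, hX] at h3
    omega
  · refine not_sys_sq S (gab := 2) hX (by norm_num) (by rw [h1]) (by norm_num) ?_
    intro β hβ hd
    have := Nat.le_of_dvd (by norm_num) hd
    nlinarith

theorem psl211 (S : Sys N) (hX : Nat.card X = 11) (hT : Nat.card T = 660) (h : Nat.card G ∣ Nat.card T * 2) :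
    False := by
  rcases card_cases (Or.inr Nat.prime_two) h with h1 | h1 <;> rw [hT] at h1
  · exact not_sys_k S (ga := 60) (gab := 6) (r := 5) (k := 2) (B := 2) hX (by rw [h1]) (by norm_num) (by norm_num)
      (by norm_num) (by norm_num) (by norm_num) (by norm_num) (by norm_num) (by decide) (by norm_num) t_l11
  · exact not_sys_k S (ga := 120) (gab := 12) (r := 5) (k := 2) (B := 3) hX (by rw [h1]) (by norm_num) (by norm_num)
      (by norm_num) (by norm_num) (by norm_num) (by norm_num) (by norm_num) (by decide) (by norm_num) t_l11'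

theorem a7 (S : Sys N) (hX : Nat.card X = 15) (hT : Nat.card T = 2520) (h : Nat.card G ∣ Nat.card T * 2) : False := by
  rcases card_cases (Or.inr Nat.prime_two) h with h1 | h1 <;> rw [hT] at h1
  · exact not_sys_k S (ga := 168) (gab := 12) (r := 7) (k := 2) (B := 3) hX (by rw [h1]) (by norm_num) (by norm_num)
      (by norm_num) (by norm_num) (by norm_num) (by norm_num) (by norm_num) (by decide) (by norm_num) t_a7
  · exact not_sys_k S (ga := 336) (gab := 24) (r := 7) (k := 2) (B := 4) hX (by rw [h1]) (by norm_num) (by norm_num)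
      (by norm_num) (by norm_num) (by norm_num) (by norm_num) (by norm_num) (by decide) (by norm_num) t_a7'

theorem m11 (S : Sys N) (hX : Nat.card X = 11) (hT : Nat.card T = 7920) (h : Nat.card G ∣ Nat.card T * 1) : False := by
  rcases card_cases (Or.inl rfl) h with h1 | h1 <;> rw [hT] at h1 <;>
  exact not_sys_k S (ga := 720) (gab := 72) (r := 5) (k := 2) (B := 8) hX (by rw [h1]) (by norm_num) (by norm_num)
      (by norm_num) (by norm_num) (by norm_num) (by norm_num) (by norm_num) (by decide) (by norm_num) t_m11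

theorem m11' (S : Sys N) (hX : Nat.card X = 12) (hT : Nat.card T = 7920) (h : Nat.card G ∣ Nat.card T * 1) :
    False := by
  rcases card_cases (Or.inl rfl) h with h1 | h1 <;> rw [hT] at h1 <;>
  exact not_sys_k S (ga := 660) (gab := 60) (r := 11) (k := 1) (B := 7) hX (by rw [h1]) (by norm_num) (by norm_num)
      (by norm_num) (by norm_num) (by norm_num) (by norm_num) (by norm_num) (by decide) (by norm_num) t_m11'

theorem m12 (S : Sys N) (hX : Nat.card X = 12) (hT : Nat.card T = 95040) (h : Nat.card G ∣ Nat.card T * 2) :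
    False := by
  rcases card_cases (Or.inr Nat.prime_two) h with h1 | h1 <;> rw [hT] at h1
  · exact not_sys_k S (ga := 7920) (gab := 720) (r := 11) (k := 1) (B := 26) hX (by rw [h1]) (by norm_num)
      (by norm_num) (by norm_num) (by norm_num) (by norm_num) (by norm_num) (by norm_num) (by decide) (by norm_num)
      t_m12
  · exact not_sys_k S (ga := 15840) (gab := 1440) (r := 11) (k := 1) (B := 37) hX (by rw [h1]) (by norm_num)
      (by norm_num) (by norm_num) (by norm_num) (by norm_num) (by norm_num) (by norm_num) (by decide) (by norm_num)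
      t_m12'

theorem m23 (S : Sys N) (hX : Nat.card X = 23) (hT : Nat.card T = 10200960) (h : Nat.card G ∣ Nat.card T * 1) :
    False := by
  rcases card_cases (Or.inl rfl) h with h1 | h1 <;> rw [hT] at h1 <;>
  exact not_sys_k S (ga := 443520) (gab := 20160) (r := 11) (k := 2) (B := 141) hX (by rw [h1]) (by norm_num)
    (by norm_num) (by norm_num) (by norm_num) (by norm_num) (by norm_num) (by norm_num) (by decide) (by norm_num) t_m23

theorem m24 (S : Sys N) (hX : Nat.card X = 24) (hT : Nat.card T = 244823040) (h : Nat.card G ∣ Nat.card T * 1) :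
    False := by
  rcases card_cases (Or.inl rfl) h with h1 | h1 <;> rw [hT] at h1 <;>
  exact not_sys_k S (ga := 10200960) (gab := 443520) (r := 23) (k := 1) (B := 665) hX (by rw [h1]) (by norm_num)
    (by norm_num) (by norm_num) (by norm_num) (by norm_num) (by norm_num) (by norm_num) (by decide) (by norm_num) t_m24

/-- the index -/
theorem index_of {o n : ℕ} (ho : Nat.card G = n * o) (hn : Nat.card T = n) (hn0 : 0 < n) : T.index = o := by
  have := T.card_mul_index
  rw [ho, hn] at this
  exact Nat.eq_of_mul_eq_mul_left hn0 this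

omit [Finite G] [FaithfulSMul G X] in
theorem exists_fixed {x : G} {r : ℕ} (hr : r.Prime) (hx : orderOf x = r) (hX : ¬ r ∣ Nat.card X) :
    ∃ a : X, x • a = a := by
  have hf : Fact r.Prime := ⟨hr⟩
  have hp : IsPGroup r (zpowers x) := IsPGroup.of_card (n := 1) (by rw [Nat.card_zpowers, hx, pow_one])
  obtain ⟨a, ha⟩ := hp.nonempty_fixed_point_of_prime_not_dvd_card X hX
  exact ⟨a, ha ⟨x, mem_zpowers x⟩⟩

/-- an element of prime order `r` fixes exactly one point if `r` divides neither `|X|` nor `|G_ab|` -/
theorem exists_unique_fixed (S : Sys N) {x : G} {r n gab : ℕ} (hr : r.Prime) (hx : orderOf x = r)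
    (hX : Nat.card X = n) (hn2 : 2 ≤ n) (hn : ¬ r ∣ n) (hG : Nat.card G = n * ((n - 1) * gab)) (hg : ¬ r ∣ gab) :
    ∃ a : X, x • a = a ∧ ∀ b, b ≠ a → x • b ≠ b := by
  obtain ⟨a, ha⟩ := exists_fixed hr hx (by rw [hX]; exact hn)
  refine ⟨a, ha, fun b hba hb => hg ?_⟩
  have h3 := card_G S a
  rw [hG, hX, card_stab S hba.symm, hX] at h3
  have h4 := Nat.eq_of_mul_eq_mul_left (by omega) (Nat.eq_of_mul_eq_mul_left (by omega) h3)
  rw [h4, ← hx]
  exact Subgroup.orderOf_dvd_natCard _ (show x ∈ stabilizer G a ⊓ stabilizer G b from ⟨ha, hb⟩)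

omit [Finite G] in
theorem orderOf_coe' (x : T) : orderOf (x : G) = orderOf x := Subgroup.orderOf_coe x

/-- centralisers in a subgroup -/
theorem card_cent_sub (x : T) : Nat.card (centralizer ({x} : Set T)) ∣ Nat.card (centralizer ({(x : G)} : Set G)) := by
  let f : centralizer ({x} : Set T) →* centralizer ({(x : G)} : Set G) :=
    { toFun := fun g => ⟨g.1, mem_centralizer_singleton_iff.2 (congrArg Subtype.val
        (mem_centralizer_singleton_iff.1 g.2))⟩
      map_one' := rfl
      map_mul' := fun _ _ => rfl }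
  apply card_dvd_of_injective f
  intro g g' h
  have h4 := congrArg (fun t : centralizer ({(x : G)} : Set G) => (t : G)) h
  exact Subtype.ext (Subtype.ext h4)

theorem m22 (S : Sys N) (hn : T.Normal) [IsSimpleGroup T] (hna : ¬ ∀ x y : T, x * y = y * x) (hX : Nat.card X = 22)
    (hT : Nat.card T = 443520) (h : Nat.card G ∣ Nat.card T * 2) : False := by
  have key : ∀ gab, Nat.card G = 22 * ((22 - 1) * gab) → ¬ 7 ∣ gab → ∀ x : T, orderOf x = 7 →
      Nat.card (centralizer ({x} : Set T)) ∣ 7 := by
    intro gab hG h7 x hx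
    have hx' : orderOf (x : G) = 7 := by rw [orderOf_coe', hx]
    obtain ⟨a, ha, hu⟩ := exists_unique_fixed S (by norm_num) hx' hX (by norm_num) (by norm_num) hG h7
    have h1 := card_cent_dvd (r := 7) (k := 3) (by norm_num) hx' ha hu (by rw [hX])
    have h2 := (card_cent_sub x).trans h1
    have h3 : Nat.card (centralizer ({x} : Set T)) ∣ 443520 := by
      rw [← hT]
      exact card_subgroup_dvd_card _
    have h4 := Nat.dvd_gcd h2 h3
    have h5 : Nat.gcd (7 ^ 3 * Nat.factorial 3) 443520 = 42 := by decide
    rw [h5] at h4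
    rw [CentM22.card_cent hna hT hx h4]
  rcases card_cases (Or.inr Nat.prime_two) h with h1 | h1
  · have hi := index_of (o := 1) (by rw [h1, hT]) hT (by norm_num)
    rw [hT] at h1
    have hc := card_cent hn (r := 7) (c := 7) (by norm_num) (by rw [hi]; norm_num)
      (key 960 (by rw [h1]) (by norm_num))
    rw [hi] at hc
    exact not_sys_c S (ga := 20160) (gab := 960) (r := 7) (c := 7) (B := 30) hX (by norm_num) (by rw [h1])
      (by norm_num) (by norm_num) (by norm_num) (by norm_num) (by norm_num) hc (by norm_num) (by norm_num)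
      (by norm_num) t_m22
  · have hi := index_of (o := 2) (by rw [h1, hT]) hT (by norm_num)
    rw [hT] at h1
    have hc := card_cent hn (r := 7) (c := 7) (by norm_num) (by rw [hi]; norm_num)
      (key 1920 (by rw [h1]) (by norm_num))
    rw [hi] at hc
    exact not_sys_c S (ga := 40320) (gab := 1920) (r := 7) (c := 14) (B := 43) hX (by norm_num) (by rw [h1])
      (by norm_num) (by norm_num) (by norm_num) (by norm_num) (by norm_num) hc (by norm_num) (by norm_num)
      (by norm_num) t_m22'

theorem hs (S : Sys N) (hn : T.Normal) (hc5 : ∀ x : T, orderOf x = 7 → ¬ 5 ∣ Nat.card (centralizer ({x} : Set T)))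
    (hX : Nat.card X = 176) (hT : Nat.card T = 44352000) (h : Nat.card G ∣ Nat.card T * 2) : False := by
  have key : ∀ x : T, orderOf x = 7 → Nat.card (centralizer ({x} : Set T)) ∣ 354816 := by
    intro x hx
    have h3 : Nat.card (centralizer ({x} : Set T)) ∣ 5 ^ 3 * 354816 := by
      have h4 : Nat.card (centralizer ({x} : Set T)) ∣ Nat.card T := card_subgroup_dvd_card _
      rw [hT] at h4
      exact h4
    refine Nat.Coprime.dvd_of_dvd_mul_left ?_ h3
    apply Nat.Coprime.pow_right
    exact ((Nat.Prime.coprime_iff_not_dvd (by norm_num)).2 (hc5 x hx)).symm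
  rcases card_cases (Or.inr Nat.prime_two) h with h1 | h1
  · have hi := index_of (o := 1) (by rw [h1, hT]) hT (by norm_num)
    rw [hT] at h1
    have hc := card_cent hn (r := 7) (by norm_num) (by rw [hi]; norm_num) key
    rw [hi] at hc
    exact not_sys_c S (ga := 252000) (gab := 1440) (r := 7) (c := 354816) (B := 37) hX (by norm_num) (by rw [h1])
      (by norm_num) (by norm_num) (by norm_num) (by norm_num) (by norm_num) hc (by norm_num) (by norm_num)
      (by norm_num) t_hs
  · have hi := index_of (o := 2) (by rw [h1, hT]) hT (by norm_num)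
    rw [hT] at h1
    have hc := card_cent hn (r := 7) (by norm_num) (by rw [hi]; norm_num) key
    rw [hi] at hc
    exact not_sys_c S (ga := 504000) (gab := 2880) (r := 7) (c := 709632) (B := 53) hX (by norm_num) (by rw [h1])
      (by norm_num) (by norm_num) (by norm_num) (by norm_num) (by norm_num) hc (by norm_num) (by norm_num)
      (by norm_num) t_hs'

/-- commuting elements of prime order -/
theorem exists_comm {x : G} {r : ℕ} (hr : r.Prime) (h : r ∣ Nat.card (centralizer ({x} : Set G))) :
    ∃ z : G, orderOf z = r ∧ x * z = z * x := by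
  have hf : Fact r.Prime := ⟨hr⟩
  obtain ⟨z, hz⟩ := exists_prime_orderOf_dvd_card' r h
  exact ⟨z, by rw [← hz, Subgroup.orderOf_coe], (mem_centralizer_singleton_iff.1 z.2).symm⟩

theorem dvd_cent {x z : G} (h : x * z = z * x) : orderOf x ∣ Nat.card (centralizer ({z} : Set G)) :=
  Subgroup.orderOf_dvd_natCard _ (mem_centralizer_singleton_iff.2 h)

theorem co3 (S : Sys N) (hn : T.Normal)
    (hc5 : ∀ x : T, orderOf x = 5 → Nat.card (centralizer ({x} : Set T)) ∣ 2 ^ 5 * 3 * 5 ^ 3)
    (hX : Nat.card X = 276) (hT : Nat.card T = 495766656000) (h : Nat.card G ∣ Nat.card T * 1) : False := by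
  have h1 : Nat.card G = 495766656000 := by
    rcases card_cases (Or.inl rfl) h with h1 | h1 <;> rw [hT] at h1 <;> exact h1
  have hi := index_of (o := 1) (by rw [h1]) hT (by norm_num)
  have hG5 := card_cent hn (r := 5) (by norm_num) (by rw [hi]; norm_num) hc5
  rw [hi] at hG5
  have htr : IsPretransitive G X := by
    refine ⟨fun x y => ?_⟩
    by_cases hxy : x = y
    · exact ⟨1, by rw [hxy, one_smul]⟩
    · obtain ⟨g, h, -⟩ := S.two x y y x hxy (Ne.symm hxy)
      exact ⟨g, h⟩
  have no5 : ∀ x : G, orderOf x = 11 → ¬ 5 ∣ Nat.card (centralizer ({x} : Set G)) := by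
    intro x hx h5
    obtain ⟨z, hz, hxz⟩ := exists_comm (by norm_num) h5
    have h2 := (dvd_cent hxz).trans (hG5 z hz)
    rw [hx] at h2
    norm_num at h2
  have no7 : ∀ x : G, orderOf x = 11 → ¬ 7 ∣ Nat.card (centralizer ({x} : Set G)) := by
    intro x hx h7
    obtain ⟨y, hy, hxy⟩ := exists_comm (by norm_num) h7
    obtain ⟨a, ha, hu⟩ := exists_unique_fixed S (by norm_num) hx hX (by norm_num) (by norm_num)
      (show Nat.card G = 276 * ((276 - 1) * 6531840) by rw [h1]) (by norm_num)
    have hya : y • a = a := by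
      by_contra hya
      apply hu _ hya
      rw [← mul_smul, hxy, mul_smul, ha]
    have hc11 := FixSyl.fix_modEq (X := X) (r := 11) (by norm_num) (by rw [← hx]; exact pow_orderOf_eq_one x) hxy
    have hc7 := FixSyl.fix_modEq (X := X) (y := (1 : G)) (r := 7) (by norm_num)
      (by rw [← hy]; exact pow_orderOf_eq_one y) (by rw [mul_one, one_mul])
    have e1 : Nat.card {b : X // y • b = b ∧ x • b = b} = 1 := by
      rw [Nat.card_eq_one_iff_unique]
      refine ⟨⟨fun b c => Subtype.ext ?_⟩, ⟨⟨a, hya, ha⟩⟩⟩
      have hb : b.1 = a := by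
        by_contra hb
        exact hu _ hb b.2.2
      have hc : c.1 = a := by
        by_contra hc
        exact hu _ hc c.2.2
      rw [hb, hc]
    have e2 : Nat.card {b : X // (1 : G) • b = b} = 276 := by
      rw [← hX]
      exact Nat.card_congr ⟨fun b => b.1, fun b => ⟨b, one_smul _ _⟩, fun _ => rfl, fun _ => rfl⟩
    have e3 : Nat.card {b : X // (1 : G) • b = b ∧ y • b = b} = Nat.card {b : X // y • b = b} :=
      Nat.card_congr ⟨fun b => ⟨b.1, b.2.2⟩, fun b => ⟨b.1, one_smul _ _, b.2⟩, fun _ => rfl, fun _ => rfl⟩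
    rw [e1] at hc11
    rw [e2, e3] at hc7
    have hle : Nat.card {b : X // y • b = b} ≤ 276 := by
      rw [← hX]
      exact Nat.card_le_card_of_injective _ Subtype.val_injective
    have hne : Nat.card {b : X // y • b = b} ≠ 276 := by
      intro h276
      have h2 : Function.Bijective (Subtype.val : {b : X // y • b = b} → X) :=
        (Nat.bijective_iff_injective_and_card _).2 ⟨Subtype.val_injective, h276.trans hX.symm⟩
      have h3 : y = 1 := by
        apply FaithfulSMul.eq_of_smul_eq_smul (α := X)
        intro b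
        obtain ⟨c, rfl⟩ := h2.2 b
        rw [one_smul, c.2]
      rw [h3, orderOf_one] at hy
      norm_num at hy
    have hd := FixSyl.fix_dvd htr (by norm_num) hy (by rw [h1]; norm_num) ⟨a, hya⟩
    have hd2 := hd.trans (card_subgroup_dvd_card _)
    rw [h1] at hd2
    have hd3 := hd.trans (SysNum.card_normalizer_dvd (r := 7) (by norm_num) (by rw [Nat.card_zpowers, hy]))
    have hC : Nat.card (centralizer ((zpowers y : Subgroup G) : Set G)) = Nat.card (centralizer ({y} : Set G)) := by
      rw [zpowers_eq_closure, centralizer_closure]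
    rw [hC] at hd3
    generalize Nat.card {b : X // y • b = b} = F at *
    have h45 : F = 45 ∨ F = 122 ∨ F = 199 := by
      have h2 : 276 % 7 = F % 7 := hc7
      have h3 : F % 11 = 1 % 11 := hc11
      omega
    rcases h45 with rfl | rfl | rfl
    · have h5 : 5 ∣ Nat.card (centralizer ({y} : Set G)) := by
        have h6 : 5 ∣ (7 - 1) * Nat.card (centralizer ({y} : Set G)) := (by norm_num : 5 ∣ 45).trans hd3
        rcases (Nat.Prime.dvd_mul (by norm_num)).1 h6 with h7 | h7
        · norm_num at h7
        · exact h7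
      obtain ⟨z, hz, hyz⟩ := exists_comm (by norm_num) h5
      have h2 := (dvd_cent hyz).trans (hG5 z hz)
      rw [hy] at h2
      norm_num at h2
    · norm_num at hd2
    · norm_num at hd2
  refine not_sys_c S (ga := 1796256000) (gab := 6531840) (r := 11) (c := 566590464) (B := 2555) hX (by norm_num)
    (by rw [h1]) (by norm_num) (by norm_num) (by norm_num) (by norm_num) (by norm_num) ?_ (by norm_num) (by norm_num)
    (by norm_num) t_co3
  intro x hx
  have h3 : Nat.card (centralizer ({x} : Set G)) ∣ 5 ^ 3 * (7 * 566590464) := by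
    have h4 : Nat.card (centralizer ({x} : Set G)) ∣ Nat.card G := card_subgroup_dvd_card _
    rw [h1] at h4
    exact h4
  refine Nat.Coprime.dvd_of_dvd_mul_left ?_ (Nat.Coprime.dvd_of_dvd_mul_left ?_ h3)
  · exact ((Nat.Prime.coprime_iff_not_dvd (by norm_num)).2 (no7 x hx)).symm
  · apply Nat.Coprime.pow_right
    exact ((Nat.Prime.coprime_iff_not_dvd (by norm_num)).2 (no5 x hx)).symm

end Cfsg.Agent.H88.SysRows
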